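import Groth.Agent.Flat2D.FiberStalk
import Groth.Agent.Ega4C.FibreTower
import Mathlib.AlgebraicGeometry.Morphisms.Flat

/-!
# Cohen–Macaulay points of morphisms of affine schemes
-/

set_option autoImplicit false
universe u

open CategoryTheory AlgebraicGeometry

namespace K69.CMSpec

/-- The quotients `S / m_R S` only depend on the isomorphism class of the arrow. -/
theorem nonempty_quot_equiv {A B A' B' : CommRingCat.{u}} [IsLocalRing A] [IsLocalRing A']
    (f : A ⟶ B) (g : A' ⟶ B') (e : Arrow.mk f ≅ Arrow.mk g) :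
    Nonempty ((B ⧸ (IsLocalRing.maximalIdeal A).map f.hom) ≃+*
      (B' ⧸ (IsLocalRing.maximalIdeal A').map g.hom)) := by
  have eL : A ≅ A' := Arrow.leftFunc.mapIso e
  let eA : A ≅ A' := Arrow.leftFunc.mapIso e
  let eB : B ≅ B' := Arrow.rightFunc.mapIso e
  have hcomm : f ≫ eB.hom = eA.hom ≫ g := (Arrow.w e.hom).symm
  refine ⟨Ideal.quotientEquiv _ _ eB.commRingCatIsoToRingEquiv ?_⟩
  have h1 : (IsLocalRing.maximalIdeal A).map eA.hom.hom = IsLocalRing.maximalIdeal A' :=
    IsLocalRing.map_ringEquiv_maximalIdeal eA.commRingCatIsoToRingEquiv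
  have h2 : ((IsLocalRing.maximalIdeal A).map f.hom).map eB.commRingCatIsoToRingEquiv =
      (IsLocalRing.maximalIdeal A).map (f ≫ eB.hom).hom := by
    rw [CommRingCat.hom_comp, ← Ideal.map_map]
    rfl
  rw [← h1, Ideal.map_map]
  refine Eq.trans ?_ h2.symm
  rw [hcomm, CommRingCat.hom_comp]

theorem nonempty_fibLocRing_equiv {A B : Type u} [CommRing A] [CommRing B] [Algebra A B]
    (n : PrimeSpectrum B) :
    Nonempty (((Spec (CommRingCat.of B)).presheaf.stalk n ⧸
      (IsLocalRing.maximalIdeal ((Spec (CommRingCat.of A)).presheaf.stalk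
        ((Spec.map (CommRingCat.ofHom (algebraMap A B))) n))).map
        ((Spec.map (CommRingCat.ofHom (algebraMap A B))).stalkMap n).hom) ≃+*
      EGA4.FibLocRing A B n.asIdeal) := by
  have key : (IsLocalRing.maximalIdeal (Localization.AtPrime
      (n.comap (algebraMap A B)).asIdeal)).map (Localization.localRingHom
      (n.comap (algebraMap A B)).asIdeal n.asIdeal (algebraMap A B) rfl) =
      (n.asIdeal.comap (algebraMap A B)).map
        (algebraMap A (Localization.AtPrime n.asIdeal)) := by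
    rw [← Localization.AtPrime.map_eq_maximalIdeal, Ideal.map_map]
    congr 1
    ext a
    exact (Localization.localRingHom_to_map _ _ _ rfl a).trans
      (IsScalarTower.algebraMap_apply A B _ a).symm
  have h1 : IsLocalRing (CommRingCat.of (Localization.AtPrime
      (n.comap (algebraMap A B)).asIdeal)) :=
    inferInstanceAs (IsLocalRing (Localization.AtPrime (n.comap (algebraMap A B)).asIdeal))
  obtain ⟨e⟩ := nonempty_quot_equiv _ _
    (Scheme.arrowStalkMapSpecIso (CommRingCat.ofHom (algebraMap A B)) n)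
  exact ⟨e.trans (Ideal.quotEquivOfEq key)⟩

set_option maxHeartbeats 200000 in
theorem isCMAt_iff {A B : Type u} [CommRing A] [CommRing B] [Algebra A B] [Module.Flat A B]
    (n : PrimeSpectrum B) :
    MoreMor.IsCMAt (Spec.map (CommRingCat.ofHom (algebraMap A B))) n ↔
      LocCoh.IsCohenMacaulayLocalRing (EGA4.FibLocRing A B n.asIdeal) := by
  have hfl : Flat (Spec.map (CommRingCat.ofHom (algebraMap A B))) := by
    rw [HasRingHomProperty.Spec_iff (P := @Flat)]
    exact RingHom.flat_algebraMap_iff.mpr inferInstance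
  refine (Groth.Agent.Flat2D.FiberStalk.moreMor_isCMAt_iff
    (Spec.map (CommRingCat.ofHom (algebraMap A B))) n).trans ?_
  obtain ⟨e⟩ := nonempty_fibLocRing_equiv (A := A) n
  have h := Groth.Agent.Flat2D.FiberStalk.isCohenMacaulayLocalRing_iff_of_ringEquiv e
  have h2 := Flat.stalkMap (Spec.map (CommRingCat.ofHom (algebraMap A B))) n
  exact ⟨fun hx => h.mp hx.2, fun hx => ⟨h2, h.mpr hx⟩⟩

theorem isCohenMacaulayLocalRing_fibLocRing {A B : Type u} [CommRing A] [CommRing B] [Algebra A B]
    (q : Ideal B) [q.IsPrime]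
    (h : LocCoh.IsCohenMacaulayRing ((q.comap (algebraMap A B)).Fiber B)) :
    LocCoh.IsCohenMacaulayLocalRing (EGA4.FibLocRing A B q) := by
  obtain ⟨Q, hQ, hQ'⟩ := Groth.Agent.Ega4C.FibreTower.exists_prime_fibre
    (q.comap (algebraMap A B)) q rfl
  have := h.isCohenMacaulayLocalRing_localization Q
  have e := Groth.Agent.Ega4C.FibreTower.locFibreEquiv (q.comap (algebraMap A B)) Q
  have h2 := (Groth.Agent.Flat2D.FiberStalk.isCohenMacaulayLocalRing_iff_of_ringEquiv e).mp this
  have hcongr : ∀ (q₁ q₂ : Ideal B) [q₁.IsPrime] [q₂.IsPrime], q₁ = q₂ →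
      LocCoh.IsCohenMacaulayLocalRing (EGA4.FibLocRing A B q₁) →
      LocCoh.IsCohenMacaulayLocalRing (EGA4.FibLocRing A B q₂) := by
    intro q₁ q₂ _ _ h12 h
    subst h12
    exact h
  exact hcongr _ _ hQ' h2

end K69.CMSpec
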