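import Mathlib.RingTheory.Kaehler.Basic
import Mathlib.LinearAlgebra.TensorProduct.Quotient
import Mathlib.RingTheory.Ideal.Cotangent

/-! The conormal sequence of `A → B → C` with `A → C` surjective. -/

set_option autoImplicit false
universe u

open TensorProduct

namespace K69.Conormal

/-- Elements killed in the base change to a quotient ring. -/
theorem mem_smul_top_of_one_tmul_eq_zero {B C M : Type*} [CommRing B] [CommRing C] [Algebra B C]
    [AddCommGroup M] [Module B M] (h : Function.Surjective (algebraMap B C)) (x : M)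
    (hx : (1 : C) ⊗ₜ[B] x = 0) : x ∈ RingHom.ker (algebraMap B C) • (⊤ : Submodule B M) := by
  let e : (B ⧸ RingHom.ker (algebraMap B C)) ≃ₐ[B] C :=
    Ideal.quotientKerAlgEquivOfSurjective (f := Algebra.ofId B C) h
  have h1 : (e.symm.toLinearEquiv.rTensor M) ((1 : C) ⊗ₜ[B] x) = 0 := by rw [hx, map_zero]
  rw [LinearEquiv.rTensor_tmul] at h1
  have h2 : e.symm.toLinearEquiv (1 : C) = (1 : B ⧸ RingHom.ker (algebraMap B C)) :=
    map_one e.symm
  rw [h2] at h1
  have h3 := congrArg (TensorProduct.quotTensorEquivQuotSMul M (RingHom.ker (algebraMap B C))) h1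
  rw [map_zero] at h3
  have h4 : (TensorProduct.quotTensorEquivQuotSMul M (RingHom.ker (algebraMap B C)))
      ((1 : B ⧸ RingHom.ker (algebraMap B C)) ⊗ₜ[B] x) = Submodule.Quotient.mk x := by
    have := TensorProduct.quotTensorEquivQuotSMul_mk_tmul (RingHom.ker (algebraMap B C)) (1 : B) x
    rw [one_smul] at this
    exact this
  rw [h4] at h3
  exact (Submodule.Quotient.mk_eq_zero _).mp h3

variable {A B C : Type u} [CommRing A] [CommRing B]
    [CommRing C] [Algebra A B] [Algebra B C] [Algebra A C] [IsScalarTower A B C]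

/-- `J² + I B`. -/
def L (A B C : Type u) [CommRing A] [CommRing B]
    [CommRing C] [Algebra A B] [Algebra B C] [Algebra A C] : Ideal B :=
  (RingHom.ker (algebraMap B C)) ^ 2 ⊔ (RingHom.ker (algebraMap A C)).map (algebraMap A B)

variable (hAC : Function.Surjective (algebraMap A C))

noncomputable def sec (b : B) : A := Function.surjInv hAC (algebraMap B C b)

theorem algebraMap_sec (b : B) : algebraMap A C (sec hAC b) = algebraMap B C b :=
  Function.surjInv_eq hAC _

theorem sub_sec_mem (b : B) : b - algebraMap A B (sec hAC b) ∈ RingHom.ker (algebraMap B C) := by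
  rw [RingHom.mem_ker, map_sub, ← IsScalarTower.algebraMap_apply, algebraMap_sec, sub_self]

theorem mk_eq {b : B} {a : A} (h : algebraMap A C a = algebraMap B C b) :
    (Ideal.Quotient.mk (L A B C) (b - algebraMap A B (sec hAC b))) =
      Ideal.Quotient.mk (L A B C) (b - algebraMap A B a) := by
  rw [Ideal.Quotient.eq]
  have h1 : (b - algebraMap A B (sec hAC b)) - (b - algebraMap A B a) =
      algebraMap A B (a - sec hAC b) := by rw [map_sub]; ring
  rw [h1]
  refine Ideal.mem_sup_right (Ideal.mem_map_of_mem _ ?_)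
  rw [RingHom.mem_ker, map_sub, h, algebraMap_sec, sub_self]

/-- The derivation `b ↦ [b - a]` where `a` is a lift of the image of `b` in `C`. -/
noncomputable def der : Derivation A B (B ⧸ L A B C) :=
  Derivation.mk' (R := A) (A := B) (M := B ⧸ L A B C)
    { toFun := fun b => Ideal.Quotient.mk (L A B C) (b - algebraMap A B (sec hAC b))
      map_add' := by
        intro x y
        rw [mk_eq hAC (b := x + y) (a := sec hAC x + sec hAC y), ← map_add]
        · congr 1
          rw [map_add]; ring
        · rw [map_add, map_add, algebraMap_sec, algebraMap_sec]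
      map_smul' := by
        intro a x
        rw [mk_eq hAC (b := a • x) (a := a * sec hAC x)]
        · rw [RingHom.id_apply, map_mul, Algebra.smul_def, ← mul_sub, map_mul,
            Algebra.smul_def]
          rfl
        · rw [map_mul, algebraMap_sec, Algebra.smul_def, map_mul, ← IsScalarTower.algebraMap_apply] }
    (by
      intro x y
      change Ideal.Quotient.mk (L A B C) (x * y - algebraMap A B (sec hAC (x * y))) =
        x • Ideal.Quotient.mk (L A B C) (y - algebraMap A B (sec hAC y)) +
        y • Ideal.Quotient.mk (L A B C) (x - algebraMap A B (sec hAC x))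
      rw [mk_eq hAC (b := x * y) (a := sec hAC x * sec hAC y)]
      · rw [Algebra.smul_def, Algebra.smul_def, Ideal.Quotient.algebraMap_eq, ← map_mul, ← map_mul,
          ← map_add, Ideal.Quotient.eq]
        have h1 : x * y - algebraMap A B (sec hAC x * sec hAC y) -
            (x * (y - algebraMap A B (sec hAC y)) + y * (x - algebraMap A B (sec hAC x))) =
            -((x - algebraMap A B (sec hAC x)) * (y - algebraMap A B (sec hAC y))) := by
          rw [map_mul]; ring
        rw [h1]
        refine Ideal.mem_sup_left (neg_mem ?_)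
        rw [pow_two]
        exact Ideal.mul_mem_mul (sub_sec_mem hAC x) (sub_sec_mem hAC y)
      · rw [map_mul, map_mul, algebraMap_sec, algebraMap_sec])

theorem der_apply (b : B) :
    der hAC b = Ideal.Quotient.mk (L A B C) (b - algebraMap A B (sec hAC b)) := rfl

theorem liftKaehler_mem (w : Ω[B⁄A]) :
    (der hAC).liftKaehlerDifferential w ∈
      (Submodule.map (Submodule.mkQ (L A B C)) (RingHom.ker (algebraMap B C)) :
        Submodule B (B ⧸ L A B C)) := by
  have h : w ∈ Submodule.span B (Set.range (KaehlerDifferential.D A B)) := by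
    rw [KaehlerDifferential.span_range_derivation]; trivial
  induction h using Submodule.span_induction with
  | mem x hx =>
    obtain ⟨b, rfl⟩ := hx
    rw [Derivation.liftKaehlerDifferential_comp_D, der_apply]
    exact Submodule.mem_map_of_mem (f := Submodule.mkQ (L A B C)) (sub_sec_mem hAC b)
  | zero => rw [map_zero]; exact Submodule.zero_mem _
  | add x y _ _ hx hy => rw [map_add]; exact Submodule.add_mem _ hx hy
  | smul a x _ hx => rw [map_smul]; exact Submodule.smul_mem _ _ hx

theorem smul_eq_zero {j : B} (hj : j ∈ RingHom.ker (algebraMap B C)) (y : B ⧸ L A B C)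
    (hy : y ∈ (Submodule.map (Submodule.mkQ (L A B C)) (RingHom.ker (algebraMap B C)) :
        Submodule B (B ⧸ L A B C))) : j • y = 0 := by
  obtain ⟨x, hx, rfl⟩ := hy
  rw [← map_smul, Submodule.mkQ_apply, Submodule.Quotient.mk_eq_zero, smul_eq_mul]
  refine Ideal.mem_sup_left ?_
  rw [pow_two]
  exact Ideal.mul_mem_mul hj hx

include hAC in
theorem mem_L_of_one_tmul_D_eq_zero {j : B} (hj : j ∈ RingHom.ker (algebraMap B C))
    (h : (1 : C) ⊗ₜ[B] KaehlerDifferential.D A B j = 0) : j ∈ L A B C := by
  have hBC : Function.Surjective (algebraMap B C) := by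
    intro c
    obtain ⟨a, rfl⟩ := hAC c
    exact ⟨algebraMap A B a, (IsScalarTower.algebraMap_apply A B C a).symm⟩
  have h1 := mem_smul_top_of_one_tmul_eq_zero hBC _ h
  have h2 : (der hAC).liftKaehlerDifferential (KaehlerDifferential.D A B j) = 0 := by
    refine Submodule.smul_induction_on h1 ?_ ?_
    · intro r hr n _
      rw [map_smul]
      exact smul_eq_zero hr _ (liftKaehler_mem hAC n)
    · intro x y hx hy
      rw [map_add, hx, hy, add_zero]
  rw [Derivation.liftKaehlerDifferential_comp_D, der_apply,
    mk_eq hAC (b := j) (a := 0) (by rw [map_zero]; exact (RingHom.mem_ker.mp hj).symm),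
    map_zero, sub_zero] at h2
  exact Ideal.Quotient.eq_zero_iff_mem.mp h2

include hAC in
theorem exists_of_mem_L {j : B} (h : j ∈ L A B C) :
    ∃ i ∈ RingHom.ker (algebraMap A C), j - algebraMap A B i ∈ (RingHom.ker (algebraMap B C)) ^ 2 := by
  obtain ⟨x, hx, y, hy, rfl⟩ := Submodule.mem_sup.mp h
  have h1 : ∃ i ∈ RingHom.ker (algebraMap A C),
      y - algebraMap A B i ∈ (RingHom.ker (algebraMap B C)) ^ 2 := by
    refine Submodule.span_induction (p := fun y _ => ∃ i ∈ RingHom.ker (algebraMap A C),
      y - algebraMap A B i ∈ (RingHom.ker (algebraMap B C)) ^ 2) ?_ ?_ ?_ ?_ hy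
    · rintro _ ⟨i, hi, rfl⟩
      exact ⟨i, hi, by rw [sub_self]; exact Ideal.zero_mem _⟩
    · exact ⟨0, Ideal.zero_mem _, by simp⟩
    · rintro x y _ _ ⟨i, hi, h1⟩ ⟨i', hi', h2⟩
      refine ⟨i + i', Ideal.add_mem _ hi hi', ?_⟩
      have := Ideal.add_mem _ h1 h2
      rw [map_add]
      convert this using 1
      ring
    · rintro b x _ ⟨i, hi, h1⟩
      refine ⟨sec hAC b * i, Ideal.mul_mem_left _ _ hi, ?_⟩
      have h3 : algebraMap A B i ∈ RingHom.ker (algebraMap B C) := by
        rw [RingHom.mem_ker, ← IsScalarTower.algebraMap_apply]; exact hi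
      have h4 := Ideal.mul_mem_mul (sub_sec_mem hAC b) h3
      rw [← pow_two] at h4
      have h5 := Ideal.add_mem _ h4 (Ideal.mul_mem_left _ b h1)
      convert h5 using 1
      rw [smul_eq_mul, map_mul]
      ring
  obtain ⟨i, hi, h2⟩ := h1
  refine ⟨i, hi, ?_⟩
  have := Ideal.add_mem _ hx h2
  convert this using 1
  ring

end K69.Conormal
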