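import Groth.Agent.Ega4A.CplFlat
import Groth.Agent.CurvesB.EtaleCompl
import Mathlib.RingTheory.Filtration

/-! Uniqueness of the map induced on completions of Noetherian local rings. -/

set_option autoImplicit false
universe u

open IsLocalRing

namespace K69.CplUnique

variable {A B : Type u} [CommRing A] [IsNoetherianRing A] [IsLocalRing A]
  [CommRing B] [IsNoetherianRing B] [IsLocalRing B] [Algebra A B] [IsLocalHom (algebraMap A B)]

theorem eq_of_comp
    (ψ₁ ψ₂ : AdicCompletion (maximalIdeal A) A →+* AdicCompletion (maximalIdeal B) B)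
    (h₁ : ψ₁.comp (algebraMap A (AdicCompletion (maximalIdeal A) A)) =
      (algebraMap B (AdicCompletion (maximalIdeal B) B)).comp (algebraMap A B))
    (h₂ : ψ₂.comp (algebraMap A (AdicCompletion (maximalIdeal A) A)) =
      (algebraMap B (AdicCompletion (maximalIdeal B) B)).comp (algebraMap A B)) : ψ₁ = ψ₂ := by
  have hN := Groth.Agent.Ega4A.CplFlat.isNoetherianRing_cpl B
  have hle : (maximalIdeal A).map (algebraMap A B) ≤ maximalIdeal B :=
    IsLocalRing.map_maximalIdeal_le _
  have key : ∀ (ψ : AdicCompletion (maximalIdeal A) A →+* AdicCompletion (maximalIdeal B) B)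
      (_ : ψ.comp (algebraMap A (AdicCompletion (maximalIdeal A) A)) =
      (algebraMap B (AdicCompletion (maximalIdeal B) B)).comp (algebraMap A B)) (n : ℕ)
      (y : AdicCompletion (maximalIdeal A) A)
      (_ : y ∈ ((maximalIdeal A) ^ n).map (algebraMap A (AdicCompletion (maximalIdeal A) A))),
      ψ y ∈ (maximalIdeal (AdicCompletion (maximalIdeal B) B)) ^ n := by
    intro ψ hψ n y hy
    have h3 : ψ y ∈ (((maximalIdeal A) ^ n).map
        (algebraMap A (AdicCompletion (maximalIdeal A) A))).map ψ := Ideal.mem_map_of_mem _ hy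
    rw [Ideal.map_map, hψ, ← Ideal.map_map, Ideal.map_pow, Ideal.map_pow] at h3
    refine Ideal.pow_right_mono ?_ n h3
    rw [AdicCompletion.maximalIdeal_eq_map]
    exact Ideal.map_mono hle
  refine RingHom.ext fun x => ?_
  rw [← sub_eq_zero]
  have h4 : ψ₁ x - ψ₂ x ∈ ⨅ n : ℕ, (maximalIdeal (AdicCompletion (maximalIdeal B) B)) ^ n := by
    rw [Ideal.mem_iInf]
    intro n
    obtain ⟨a, ha⟩ := Groth.Agent.Ega4A.CplFlat.surjective_algebraMap_quotient A n
      (Ideal.Quotient.mk _ x)
    have hx : x - algebraMap A _ a ∈ ((maximalIdeal A) ^ n).map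
        (algebraMap A (AdicCompletion (maximalIdeal A) A)) := by
      rw [← Ideal.Quotient.eq, ← ha]; rfl
    have e1 := key ψ₁ h₁ n _ hx
    have e2 := key ψ₂ h₂ n _ hx
    have e3 : ψ₁ (algebraMap A _ a) = ψ₂ (algebraMap A _ a) :=
      (RingHom.congr_fun h₁ a).trans (RingHom.congr_fun h₂ a).symm
    have := sub_mem e1 e2
    rw [map_sub, map_sub, e3] at this
    simpa using this
  rw [Ideal.iInf_pow_eq_bot_of_isLocalRing _ (maximalIdeal.isMaximal _).ne_top] at h4
  exact h4

end K69.CplUnique
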