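import Mathlib.LinearAlgebra.TensorProduct.DirectLimit
import Mathlib.RingTheory.TensorProduct.Maps
import Mathlib.RingTheory.FiniteType
import Mathlib.Algebra.Colimit.Ring

/-! Tensor products and directed colimits, elementwise; algebra maps over a directed colimit. -/

set_option autoImplicit false

open TensorProduct

namespace K69.DirLim

universe u v w

section Mod

variable {A : Type*} [CommRing A] {ι : Type*} [Preorder ι] [Nonempty ι] [IsDirectedOrder ι]
  {G : ι → Type*} [∀ i, AddCommGroup (G i)] [∀ i, Module A (G i)]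
  (f : ∀ i j, i ≤ j → G i →ₗ[A] G j) [DirectedSystem G (fun i j h => f i j h)]
  {R : Type*} [AddCommGroup R] [Module A R] (ψ : ∀ i, G i →ₗ[A] R)

theorem exists_rTensor_eq_zero (hψ : ∀ i j (h : i ≤ j) x, ψ j (f i j h x) = ψ i x)
    (hs : ∀ r : R, ∃ i x, ψ i x = r)
    (hi : ∀ i x, ψ i x = 0 → ∃ (j : ι) (h : i ≤ j), f i j h x = 0)
    (M : Type*) [AddCommGroup M] [Module A M] (i : ι) (x : G i ⊗[A] M)
    (hx : (ψ i).rTensor M x = 0) : ∃ (j : ι) (h : i ≤ j), (f i j h).rTensor M x = 0 := by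
  classical
  let e0 : Module.DirectLimit G f →ₗ[A] R := Module.DirectLimit.lift A ι G f ψ hψ
  have he0 : Function.Bijective e0 := by
    constructor
    · rw [injective_iff_map_eq_zero]
      intro z hz
      obtain ⟨i, x, rfl⟩ := Module.DirectLimit.exists_of z
      rw [Module.DirectLimit.lift_of] at hz
      obtain ⟨j, h, hj⟩ := hi i x hz
      rw [← Module.DirectLimit.of_f (hij := h), hj, map_zero]
    · intro r
      obtain ⟨i, x, rfl⟩ := hs r
      exact ⟨Module.DirectLimit.of A ι G f i x, Module.DirectLimit.lift_of _ _ _⟩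
  let e : Module.DirectLimit G f ≃ₗ[A] R := LinearEquiv.ofBijective e0 he0
  have h1 : e.symm.toLinearMap ∘ₗ ψ i = Module.DirectLimit.of A ι G f i := by
    ext y
    rw [LinearMap.comp_apply, LinearEquiv.coe_coe, LinearEquiv.symm_apply_eq]
    exact (Module.DirectLimit.lift_of (G := G) (f := f) ψ hψ y).symm
  have h2 : (Module.DirectLimit.of A ι G f i).rTensor M x = 0 := by
    rw [← h1, LinearMap.rTensor_comp_apply, hx, map_zero]
  have h3 := TensorProduct.directLimitLeft_rTensor_of f M x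
  rw [h2, map_zero] at h3
  obtain ⟨j, h, hj⟩ := Module.DirectLimit.of.zero_exact h3.symm
  exact ⟨j, h, hj⟩

omit [DirectedSystem G (fun i j h => f i j h)] in
theorem exists_rTensor_eq (hψ : ∀ i j (h : i ≤ j) x, ψ j (f i j h x) = ψ i x)
    (hs : ∀ r : R, ∃ i x, ψ i x = r)
    (M : Type*) [AddCommGroup M] [Module A M] (y : R ⊗[A] M) (i₀ : ι) :
    ∃ (i : ι) (_ : i₀ ≤ i) (x : G i ⊗[A] M), (ψ i).rTensor M x = y := by
  induction y with
  | zero => exact ⟨i₀, le_rfl, 0, map_zero _⟩
  | tmul r m =>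
    obtain ⟨i, x, rfl⟩ := hs r
    obtain ⟨j, h1, h2⟩ := exists_ge_ge i₀ i
    exact ⟨j, h1, f i j h2 x ⊗ₜ m, by rw [LinearMap.rTensor_tmul, hψ]⟩
  | add y y' hy hy' =>
    obtain ⟨i, hi, x, rfl⟩ := hy
    obtain ⟨i', hi', x', rfl⟩ := hy'
    obtain ⟨j, h1, h2⟩ := exists_ge_ge i i'
    have key : ∀ (a : ι) (h : a ≤ j) (z : G a ⊗[A] M),
        (ψ j).rTensor M ((f a j h).rTensor M z) = (ψ a).rTensor M z := by
      intro a h z
      rw [← LinearMap.rTensor_comp_apply]
      congr 2
      ext t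
      exact hψ a j h t
    exact ⟨j, hi.trans h1, (f i j h1).rTensor M x + (f i' j h2).rTensor M x', by
      rw [map_add, key, key]⟩

end Mod

section Alg

theorem comm {A X Y B C : Type*} [CommRing A] [CommRing X] [CommRing Y] [Algebra A X] [Algebra A Y]
    [CommRing B] [CommRing C] [Algebra A B] [Algebra A C] (u : B →ₐ[A] C) (g : X →ₐ[A] Y)
    (z : X ⊗[A] B) : Algebra.TensorProduct.map (AlgHom.id A Y) u (g.toLinearMap.rTensor B z) =
        g.toLinearMap.rTensor C (Algebra.TensorProduct.map (AlgHom.id A X) u z) := by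
  induction z with
  | zero => simp only [map_zero]
  | add x y hx hy => rw [map_add, map_add, map_add, map_add, hx, hy]
  | tmul x b => simp

variable {A : Type*} [CommRing A] {ι : Type*} [Preorder ι] [Nonempty ι] [IsDirectedOrder ι]
  {G : ι → Type*} [∀ i, CommRing (G i)] [∀ i, Algebra A (G i)]
  (f : ∀ i j, i ≤ j → G i →ₐ[A] G j) [DirectedSystem G (fun i j h => f i j h)]
  {R : Type*} [CommRing R] [Algebra A R] (ψ : ∀ i, G i →ₐ[A] R)
  {B C : Type*} [CommRing B] [CommRing C] [Algebra A B] [Algebra A C]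

theorem exists_eq (hψ : ∀ i j (h : i ≤ j) x, ψ j (f i j h x) = ψ i x)
    (hs : ∀ r : R, ∃ i x, ψ i x = r)
    (hi : ∀ i x, ψ i x = 0 → ∃ (j : ι) (h : i ≤ j), f i j h x = 0)
    [hB : Algebra.FiniteType A B] (u u' : B →ₐ[A] C)
    (h : Algebra.TensorProduct.map (AlgHom.id A R) u =
      Algebra.TensorProduct.map (AlgHom.id A R) u') :
    ∃ i : ι, Algebra.TensorProduct.map (AlgHom.id A (G i)) u =
      Algebra.TensorProduct.map (AlgHom.id A (G i)) u' := by
  classical
  obtain ⟨s, hs'⟩ := hB.out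
  let i₀ : ι := Classical.arbitrary ι
  have hds : DirectedSystem G (fun i j h => (f i j h).toLinearMap) :=
    ⟨fun i x => DirectedSystem.map_self' f x, fun k j i hij hjk x => DirectedSystem.map_map' f hij hjk x⟩
  have key : ∀ b : B, ∃ j : ι, i₀ ≤ j ∧ ∀ k, j ≤ k → (1 : G k) ⊗ₜ[A] (u b - u' b) = 0 := by
    intro b
    obtain ⟨j, hj, hj'⟩ := exists_rTensor_eq_zero (fun i j h => (f i j h).toLinearMap)
      (fun i => (ψ i).toLinearMap) hψ hs hi C i₀ ((1 : G i₀) ⊗ₜ[A] (u b - u' b)) (by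
        rw [LinearMap.rTensor_tmul, AlgHom.toLinearMap_apply, map_one, TensorProduct.tmul_sub,
          sub_eq_zero]
        have := AlgHom.congr_fun h ((1 : R) ⊗ₜ[A] b)
        simpa using this)
    rw [LinearMap.rTensor_tmul, AlgHom.toLinearMap_apply, map_one] at hj'
    refine ⟨j, hj, fun k hk => ?_⟩
    have := congrArg ((f j k hk).toLinearMap.rTensor C) hj'
    rw [LinearMap.rTensor_tmul, AlgHom.toLinearMap_apply, map_one, map_zero] at this
    exact this
  choose J hJ0 hJ using key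
  obtain ⟨k, hk⟩ := (s.image J).exists_le
  refine ⟨k, ?_⟩
  apply Algebra.TensorProduct.ext
  · ext; simp
  · refine AlgHom.ext_of_adjoin_eq_top (s := (s : Set B)) hs' ?_
    intro b hb
    have h1 := hJ b k (hk _ (Finset.mem_image_of_mem _ hb))
    rw [TensorProduct.tmul_sub, sub_eq_zero] at h1
    simpa using h1

theorem exists_surjective (hψ : ∀ i j (h : i ≤ j) x, ψ j (f i j h x) = ψ i x)
    (hs : ∀ r : R, ∃ i x, ψ i x = r)
    (hi : ∀ i x, ψ i x = 0 → ∃ (j : ι) (h : i ≤ j), f i j h x = 0)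
    [hC : Algebra.FiniteType A C] (u : B →ₐ[A] C)
    (h : Function.Surjective (Algebra.TensorProduct.map (AlgHom.id A R) u)) :
    ∃ i : ι, Function.Surjective (Algebra.TensorProduct.map (AlgHom.id A (G i)) u) := by
  classical
  obtain ⟨s, hs'⟩ := hC.out
  let i₀ : ι := Classical.arbitrary ι
  have hds : DirectedSystem G (fun i j h => (f i j h).toLinearMap) :=
    ⟨fun i x => DirectedSystem.map_self' f x, fun k j i hij hjk x => DirectedSystem.map_map' f hij hjk x⟩
  have key : ∀ c : C, ∃ j : ι, ∀ k, j ≤ k →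
      (1 : G k) ⊗ₜ[A] c ∈ (Algebra.TensorProduct.map (AlgHom.id A (G k)) u).range := by
    intro c
    obtain ⟨y, hy⟩ := h (1 ⊗ₜ c)
    obtain ⟨i, -, x, rfl⟩ := exists_rTensor_eq (fun i j h => (f i j h).toLinearMap)
      (fun i => (ψ i).toLinearMap) hψ hs B y i₀
    rw [comm] at hy
    obtain ⟨j, hj, hj'⟩ := exists_rTensor_eq_zero (fun i j h => (f i j h).toLinearMap)
      (fun i => (ψ i).toLinearMap) hψ hs hi C i
      (Algebra.TensorProduct.map (AlgHom.id A (G i)) u x - (1 : G i) ⊗ₜ[A] c) (by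
        rw [map_sub, hy, LinearMap.rTensor_tmul, AlgHom.toLinearMap_apply, map_one, sub_self])
    rw [map_sub, sub_eq_zero, ← comm, LinearMap.rTensor_tmul, AlgHom.toLinearMap_apply,
      map_one] at hj'
    refine ⟨j, fun k hk => ?_⟩
    have := congrArg ((f j k hk).toLinearMap.rTensor C) hj'
    rw [LinearMap.rTensor_tmul, AlgHom.toLinearMap_apply, map_one, ← comm] at this
    exact ⟨_, this⟩
  choose J hJ using key
  obtain ⟨k, hk⟩ := (s.image J).exists_le
  refine ⟨k, ?_⟩
  have h1 : ∀ c : C, (1 : G k) ⊗ₜ[A] c ∈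
      (Algebra.TensorProduct.map (AlgHom.id A (G k)) u).range := by
    intro c
    have hc : c ∈ Algebra.adjoin A (s : Set C) := by rw [hs']; trivial
    have hle : Algebra.adjoin A (s : Set C) ≤
        ((Algebra.TensorProduct.map (AlgHom.id A (G k)) u).range).comap
          Algebra.TensorProduct.includeRight := by
      refine Algebra.adjoin_le ?_
      intro x hx
      exact hJ x k (hk _ (Finset.mem_image_of_mem _ hx))
    exact hle hc
  intro z
  induction z with
  | zero => exact ⟨0, map_zero _⟩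
  | add x y hx hy =>
    obtain ⟨a, rfl⟩ := hx
    obtain ⟨b, rfl⟩ := hy
    exact ⟨a + b, map_add _ _ _⟩
  | tmul g c =>
    obtain ⟨a, ha⟩ := h1 c
    have ha' : Algebra.TensorProduct.map (AlgHom.id A (G k)) u a = 1 ⊗ₜ c := ha
    refine ⟨(g ⊗ₜ 1) * a, ?_⟩
    rw [map_mul, ha']
    simp

end Alg

end K69.DirLim
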