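import Groth.Agent.Etbase.EtaleStalk
import Mathlib.RingTheory.Etale.Basic
import Mathlib.RingTheory.Localization.AtPrime.Basic
import Mathlib.RingTheory.Flat.Localization
import Mathlib.RingTheory.Unramified.Locus
import Mathlib.RingTheory.Finiteness.Descent

/-! Noetherian and regular local rings along etale ring maps. -/

set_option autoImplicit false
universe u

namespace K69.EtaleLoc

variable (A B : Type u) [CommRing A] [CommRing B] [Algebra A B]

/-- Ess. finite type local map of localizations. -/
theorem essFiniteType [Algebra.FiniteType A B] (p : Ideal A) [p.IsPrime] (q : Ideal B) [q.IsPrime]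
    [q.LiesOver p] [Algebra (Localization.AtPrime p) (Localization.AtPrime q)]
    [Localization.AtPrime.IsLiesOverAlgebra p q] :
    Algebra.EssFiniteType (Localization.AtPrime p) (Localization.AtPrime q) := by
  have : Algebra.EssFiniteType A (Localization.AtPrime q) := inferInstance
  exact Algebra.EssFiniteType.of_comp A (Localization.AtPrime p) (Localization.AtPrime q)

theorem isNoetherianRing_iff [Algebra.FiniteType A B] [Module.Flat A B] (p : Ideal A) [p.IsPrime]
    (q : Ideal B) [q.IsPrime] [q.LiesOver p] :
    IsNoetherianRing (Localization.AtPrime p) ↔ IsNoetherianRing (Localization.AtPrime q) := by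
  letI := Localization.AtPrime.algebraOfLiesOver p q
  constructor
  · intro h
    have := essFiniteType A B p q
    exact Algebra.EssFiniteType.isNoetherianRing (Localization.AtPrime p) (Localization.AtPrime q)
  · intro h
    have hloc : IsLocalHom (algebraMap (Localization.AtPrime p) (Localization.AtPrime q)) := by
      rw [Localization.AtPrime.IsLiesOverAlgebra.algebraMap_eq (p := p) (P := q)]
      infer_instance
    have : Module.FaithfullyFlat (Localization.AtPrime p) (Localization.AtPrime q) :=
      Module.FaithfullyFlat.of_flat_of_isLocalHom
    rw [isNoetherianRing_iff_ideal_fg]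
    intro I
    exact Ideal.FG.of_FG_map_of_faithfullyFlat (S := Localization.AtPrime q)
      (IsNoetherian.noetherian (R := Localization.AtPrime q) (M := Localization.AtPrime q)
        (I.map (algebraMap _ _)))

theorem isRegularLocalRing_iff [Algebra.Etale A B] (p : Ideal A) [p.IsPrime]
    (q : Ideal B) [q.IsPrime] [q.LiesOver p] :
    IsRegularLocalRing (Localization.AtPrime p) ↔ IsRegularLocalRing (Localization.AtPrime q) := by
  have hN := isNoetherianRing_iff A B p q
  letI := Localization.AtPrime.algebraOfLiesOver p q
  have hloc : IsLocalHom (algebraMap (Localization.AtPrime p) (Localization.AtPrime q)) := by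
    rw [Localization.AtPrime.IsLiesOverAlgebra.algebraMap_eq (p := p) (P := q)]
    infer_instance
  have := essFiniteType A B p q
  have : Algebra.FormallyUnramified (Localization.AtPrime p) (Localization.AtPrime q) :=
    inferInstance
  have hm : (IsLocalRing.maximalIdeal (Localization.AtPrime p)).map
      (algebraMap (Localization.AtPrime p) (Localization.AtPrime q)) =
      IsLocalRing.maximalIdeal (Localization.AtPrime q) :=
    Algebra.FormallyUnramified.map_maximalIdeal
  constructor
  · intro h
    have h1 : IsNoetherianRing (Localization.AtPrime p) := inferInstance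
    have h2 := hN.mp h1
    exact (Groth.Agent.Etbase.EtaleStalk.isRegularLocalRing_iff hm).mpr h
  · intro h
    have h1 : IsNoetherianRing (Localization.AtPrime q) := inferInstance
    have h2 := hN.mpr h1
    exact (Groth.Agent.Etbase.EtaleStalk.isRegularLocalRing_iff hm).mp h

end K69.EtaleLoc
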