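import Groth.Agent.CalgB.EssFP
import Mathlib.LinearAlgebra.TensorProduct.Quotient
import Mathlib.RingTheory.TensorProduct.IsBaseChangeRightExact
import Mathlib.RingTheory.TensorProduct.IsBaseChangePi

/-! Finitely presented modules over quotients and localizations lift. -/

set_option autoImplicit false

namespace K69.FPLift

universe u v w

/-- A finitely presented module over `R ⧸ I` is `M ⧸ I M` for a finitely presented `R`-module `M`. -/
theorem exists_quotient_lift {R : Type u} [CommRing R] (I : Ideal R) (M₀ : Type v) [AddCommGroup M₀]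
    [Module (R ⧸ I) M₀] [Module.FinitePresentation (R ⧸ I) M₀] :
    ∃ (M : Type u) (_ : AddCommGroup M) (_ : Module R M), Module.FinitePresentation R M ∧
      Nonempty ((M ⧸ (I • ⊤ : Submodule R M)) ≃ₗ[R ⧸ I] M₀) := by
  classical
  letI : Module R M₀ := Module.compHom M₀ (Ideal.Quotient.mk I)
  have : IsScalarTower R (R ⧸ I) M₀ := ⟨fun a b x => by
    obtain ⟨b, rfl⟩ := Ideal.Quotient.mk_surjective b
    change (Ideal.Quotient.mk I (a * b)) • x = (Ideal.Quotient.mk I a) • (Ideal.Quotient.mk I b) • x
    rw [map_mul, mul_smul]⟩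
  obtain ⟨r, m, g, f, hg, hfg⟩ := Module.FinitePresentation.exists_fin' (R ⧸ I) M₀
  let B := R ⧸ I
  choose v hv using fun (j : Fin m) (i : Fin r) => Ideal.Quotient.mk_surjective
    (f (Pi.single j 1) i)
  let f₀ : (Fin m → R) →ₗ[R] (Fin r → R) := Fintype.linearCombination R v
  have h0 : IsBaseChange B (Algebra.linearMap R B) := IsBaseChange.linearMap R B
  let h₁ : (Fin m → R) →ₗ[R] (Fin m → B) := (Algebra.linearMap R B).compLeft (Fin m)
  let h₂ : (Fin r → R) →ₗ[R] (Fin r → B) := (Algebra.linearMap R B).compLeft (Fin r)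
  have comm₁ : h₂.comp f₀ = (f.restrictScalars R).comp h₁ := by
    refine LinearMap.pi_ext' fun j => ?_
    refine LinearMap.ext_ring (funext fun i => ?_)
    have : (Algebra.linearMap R B).compLeft (Fin m) (Pi.single j (1 : R)) =
        Pi.single j (1 : B) := by
      ext1 k
      by_cases hk : k = j
      · subst hk; simp
      · simp [hk]
    simp only [LinearMap.comp_apply, LinearMap.coe_single, f₀, Fintype.linearCombination_apply_single,
      one_smul, h₁, h₂, LinearMap.restrictScalars_apply]
    rw [this]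
    exact hv j i
  let N₀ := LinearMap.range f₀
  let M := (Fin r → R) ⧸ N₀
  let h₃ : M →ₗ[R] M₀ := N₀.liftQ ((g.restrictScalars R).comp h₂) (by
    rintro _ ⟨x, rfl⟩
    rw [LinearMap.mem_ker, LinearMap.comp_apply, ← LinearMap.comp_apply h₂ f₀, comm₁]
    exact hfg.apply_apply_eq_zero _)
  have comm₂ : h₃.comp N₀.mkQ = (g.restrictScalars R).comp h₂ := N₀.liftQ_mkQ _ _
  have hbc : IsBaseChange B h₃ :=
    IsBaseChange.of_right_exact B h₁ h₂ h₃ comm₁ comm₂ (h0.finitePow (Fin m)) (h0.finitePow (Fin r))
      (LinearMap.exact_map_mkQ_range f₀) N₀.mkQ_surjective hfg hg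
  refine ⟨M, inferInstance, inferInstance, ?_, ?_⟩
  · exact Module.finitePresentation_of_surjective N₀.mkQ N₀.mkQ_surjective (by
      rw [Submodule.ker_mkQ]
      exact Submodule.fg_range _ )
  · let e1 : (M ⧸ (I • ⊤ : Submodule R M)) ≃ₗ[R] TensorProduct R B M :=
      (TensorProduct.quotTensorEquivQuotSMul M I).symm
    let e2 : TensorProduct R B M ≃ₗ[R] M₀ := hbc.equiv.restrictScalars R
    exact ⟨LinearEquiv.extendScalarsOfSurjective (R := R) (S := R ⧸ I)
      Ideal.Quotient.mk_surjective (e1.trans e2)⟩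

end K69.FPLift
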