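import Groth.Agent.FibDim.K582.CMConst
import Groth.Agent.CAlg.K68.CMDecomp
import Groth.Agent.CAlg.K69.CMSpec
import Groth.Agent.Dual.H319.FibDim
import Groth.Agent.Ega4B.CMGlobal
import Groth.Agent.CalgC.LocalDimBC

/-!
# Decomposition by the fibre dimension
-/

set_option autoImplicit false
universe u

open CategoryTheory AlgebraicGeometry TensorProduct

namespace K69.FibDecomp

theorem exists_fibre_point {R S : Type u} [CommRing R] [CommRing S] [Algebra R S]
    (q : PrimeSpectrum S) : ∃ Q : PrimeSpectrum ((q.comap (algebraMap R S)).asIdeal.Fiber S),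
      Q.asIdeal.comap (Algebra.TensorProduct.includeRight : S →ₐ[R] _) = q.asIdeal := by
  obtain ⟨Q, hQ, hQ'⟩ := Groth.Agent.Ega4C.FibreTower.exists_prime_fibre
    (q.comap (algebraMap R S)).asIdeal q.asIdeal rfl
  exact ⟨⟨Q, hQ⟩, hQ'⟩

theorem ringKrullDim_fiber_le {R S : Type u} [CommRing R] [CommRing S] [Algebra R S] (N : ℕ)
    (f : MvPolynomial (Fin N) R →ₐ[R] S) (hf : Function.Surjective f) (p : Ideal R) [p.IsPrime] :
    ringKrullDim (p.Fiber S) ≤ N := by
  have hsurj : Function.Surjective
      (Algebra.TensorProduct.map (AlgHom.id p.ResidueField p.ResidueField) f) :=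
    Algebra.TensorProduct.map_surjective _ _ Function.surjective_id hf
  refine (ringKrullDim_le_of_surjective _ hsurj).trans ?_
  rw [ringKrullDim_eq_of_ringEquiv (MvPolynomial.algebraTensorAlgEquiv R p.ResidueField).toRingEquiv]
  rw [MvPolynomial.ringKrullDim_of_isNoetherianRing]
  simp

/-- uniform bound for the local fibre dimension -/
theorem exists_bound (R S : Type u) [CommRing R] [CommRing S] [Algebra R S]
    [Algebra.FiniteType R S] : ∃ N : ℕ, ∀ q : PrimeSpectrum S, ∃ d : Fin (N + 1),
      FlatMor.fibreDimAt (Spec.map (CommRingCat.ofHom (algebraMap R S))) q = (d : ℕ) := by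
  obtain ⟨N, f, hf⟩ := Algebra.FiniteType.iff_quotient_mvPolynomial''.1
    (inferInstance : Algebra.FiniteType R S)
  refine ⟨N, fun q => ?_⟩
  obtain ⟨Q, hQ⟩ := exists_fibre_point (R := R) q
  rw [Groth.Agent.Dual.H319.FibDim.fibreDimAt_spec (q.comap (algebraMap R S)) Q q hQ.symm]
  obtain ⟨d, hd⟩ := Groth.Agent.CalgC.LocalDimBC.exists_nat_localDim
    (q.comap (algebraMap R S)).asIdeal.ResidueField Q.asIdeal
  have h1 := (Groth.Agent.VarietyB.DimTop.localDim_le_dim Q).trans_eq
    (PrimeSpectrum.topologicalKrullDim_eq_ringKrullDim _)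
  have h2 := h1.trans (ringKrullDim_fiber_le N f hf (q.comap (algebraMap R S)).asIdeal)
  have h3 : FlatMor.localDim (PrimeSpectrum ((q.comap (algebraMap R S)).asIdeal.Fiber S)) Q = d := hd
  rw [h3] at h2 ⊢
  have h4 : d ≤ N := by exact_mod_cast h2
  exact ⟨⟨d, by omega⟩, rfl⟩

theorem isCohenMacaulayRing_fiber_away {R S : Type u} [CommRing R] [CommRing S] [Algebra R S]
    (T : Type u) [CommRing T] [Algebra R T] [Algebra S T] [IsScalarTower R S T] (e : S)
    [IsLocalization.Away e T] (p : Ideal R) [p.IsPrime]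
    (h : LocCoh.IsCohenMacaulayRing (p.Fiber S)) : LocCoh.IsCohenMacaulayRing (p.Fiber T) := by
  let : Algebra (p.Fiber S) (p.Fiber T) :=
    (Algebra.TensorProduct.map (AlgHom.id p.ResidueField p.ResidueField)
      (IsScalarTower.toAlgHom R S T)).toAlgebra
  have hst : IsScalarTower p.ResidueField (p.Fiber S) (p.Fiber T) :=
    .of_algebraMap_eq' ((Algebra.TensorProduct.map (AlgHom.id p.ResidueField p.ResidueField)
      (IsScalarTower.toAlgHom R S T)).comp_algebraMap.symm)
  have hloc := IsLocalization.tensorProduct_tensorProduct_right R p.ResidueField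
    (Submonoid.powers e) T (by
      ext s
      exact Algebra.TensorProduct.map_tmul _ _ _ _)
  have hN := h.toIsNoetherian
  exact Groth.Agent.Ega4B.CMGlobal.isCohenMacaulayRing_of_isLocalization (p.Fiber S) (p.Fiber T)
    (Submonoid.map (Algebra.TensorProduct.includeRight (R := R) (A := p.ResidueField))
      (Submonoid.powers e)) h

theorem ringKrullDim_quotient_of_minimal {R T : Type u} [CommRing R] [CommRing T] [Algebra R T]
    [Algebra.FiniteType R T] (d : ℕ)
    (hd : ∀ q : PrimeSpectrum T,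
      FlatMor.fibreDimAt (Spec.map (CommRingCat.ofHom (algebraMap R T))) q = d)
    (p : PrimeSpectrum R) (P : Ideal (p.asIdeal.Fiber T))
    (hP : P ∈ minimalPrimes (p.asIdeal.Fiber T)) :
    ringKrullDim (p.asIdeal.Fiber T ⧸ P) = d := by
  have hPp : P.IsPrime := hP.1.1
  let q : PrimeSpectrum T := ⟨Groth.Agent.Ega4C.FibreTower.ctr p.asIdeal P, inferInstance⟩
  have h1 := Groth.Agent.Dual.H319.FibDim.fibreDimAt_spec p ⟨P, hPp⟩ q rfl
  rw [hd, Groth.Agent.CalgC.LocalDim.localDim_eq_height_add p.asIdeal.ResidueField P,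
    Ideal.height_eq_zero_iff.mpr hP] at h1
  rw [h1]
  simp

/-- The local dimension of the fibres on an open subset of the source. -/
theorem fibreDimAt_away {R S : Type u} [CommRing R] [CommRing S] [Algebra R S]
    [Algebra.FiniteType R S] (T : Type u) [CommRing T] [Algebra R T] [Algebra S T]
    [IsScalarTower R S T] (e : S) [IsLocalization.Away e T] (q : PrimeSpectrum T) :
    FlatMor.fibreDimAt (Spec.map (CommRingCat.ofHom (algebraMap R T))) q =
      FlatMor.fibreDimAt (Spec.map (CommRingCat.ofHom (algebraMap R S)))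
        (q.comap (algebraMap S T)) := by
  have hj : IsOpenImmersion (Spec.map (CommRingCat.ofHom (algebraMap S T))) :=
    IsOpenImmersion.of_isLocalization e
  have hlft : LocallyOfFiniteType (Spec.map (CommRingCat.ofHom (algebraMap R S))) := by
    rw [HasRingHomProperty.Spec_iff (P := @LocallyOfFiniteType)]
    exact RingHom.finiteType_algebraMap.mpr inferInstance
  have h1 : Spec.map (CommRingCat.ofHom (algebraMap R T)) =
      Spec.map (CommRingCat.ofHom (algebraMap S T)) ≫
        Spec.map (CommRingCat.ofHom (algebraMap R S)) := by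
    rw [← Spec.map_comp, ← CommRingCat.ofHom_comp, ← IsScalarTower.algebraMap_eq]
  rw [h1]
  exact K582.FibRelDim.fibreDimAt_comp_isOpenImmersion
    (Spec.map (CommRingCat.ofHom (algebraMap S T)))
    (Spec.map (CommRingCat.ofHom (algebraMap R S))) q

theorem exists_pi_decomposition (R S : Type u) [CommRing R]
    [CommRing S] [Algebra R S] [Module.Flat R S] [Algebra.FinitePresentation R S]
    (hCM : ∀ p : PrimeSpectrum R, LocCoh.IsCohenMacaulayRing (p.asIdeal.Fiber S)) :
    ∃ (N : ℕ) (T : Fin (N + 1) → Type u) (_ : ∀ d, CommRing (T d)) (_ : ∀ d, Algebra R (T d)),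
      Nonempty (S ≃ₐ[R] ((d : Fin (N + 1)) → T d)) ∧
        ∀ d : Fin (N + 1), Module.Flat R (T d) ∧ Algebra.FinitePresentation R (T d) ∧
          (∀ p : PrimeSpectrum R, LocCoh.IsCohenMacaulayRing (p.asIdeal.Fiber (T d))) ∧
          ∀ (p : PrimeSpectrum R), ∀ P ∈ minimalPrimes (p.asIdeal.Fiber (T d)),
            ringKrullDim (p.asIdeal.Fiber (T d) ⧸ P) = ((d : ℕ) : WithBot ℕ∞) := by
  let f := Spec.map (CommRingCat.ofHom (algebraMap R S))
  have hfl : Flat f := by
    rw [HasRingHomProperty.Spec_iff (P := @Flat)]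
    exact RingHom.flat_algebraMap_iff.mpr inferInstance
  have hlfp : LocallyOfFinitePresentation f := by
    rw [HasRingHomProperty.Spec_iff (P := @LocallyOfFinitePresentation)]
    exact RingHom.finitePresentation_algebraMap.mpr inferInstance
  have hcm : ∀ x : Spec (CommRingCat.of S), MoreMor.IsCMAt f x := fun x =>
    (K69.CMSpec.isCMAt_iff (A := R) (B := S) x).mpr
      (K69.CMSpec.isCohenMacaulayLocalRing_fibLocRing x.asIdeal (hCM (x.comap (algebraMap R S))))
  have hconst := K582.CMConst.isLocallyConstant f hcm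
  obtain ⟨N, hN⟩ := exists_bound R S
  let Z : Fin (N + 1) → Set (PrimeSpectrum S) := fun d => {x | FlatMor.fibreDimAt f x = (d : ℕ)}
  have hZ : ∀ d, IsClopen (Z d) := fun d => hconst.isClopen_fiber _
  have hdisj : ∀ i j, i ≠ j → Disjoint (Z i) (Z j) := by
    intro i j hij
    rw [Set.disjoint_left]
    intro x hi hj
    apply hij
    have h : ((i : ℕ) : WithBot ℕ∞) = (j : ℕ) := hi.symm.trans hj
    exact Fin.ext (by exact_mod_cast h)
  obtain ⟨e, he, heZ⟩ := K68.CMDecomp.exists_idempotents Z hZ hdisj hN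
  refine ⟨N, fun d => S ⧸ Ideal.span {1 - e d}, fun d => inferInstance, fun d => inferInstance,
    ⟨AlgEquiv.ofBijective
      (AlgHom.pi (R := R) (fun d => Ideal.Quotient.mkₐ R (Ideal.span {1 - e d}))) he.bijective_pi⟩, ?_⟩
  intro d
  have hloc : IsLocalization.Away (e d) (S ⧸ Ideal.span {1 - e d}) :=
    IsLocalization.Away.quotient_of_isIdempotentElem (he.idem d)
  have hflat : Module.Flat S (S ⧸ Ideal.span {1 - e d}) :=
    IsLocalization.flat _ (Submonoid.powers (e d))
  have hfp : Algebra.FinitePresentation R (S ⧸ Ideal.span {1 - e d}) :=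
    Algebra.FinitePresentation.quotient ⟨{1 - e d}, by simp⟩
  refine ⟨Module.Flat.trans R S _, hfp,
    fun p => isCohenMacaulayRing_fiber_away _ (e d) p.asIdeal (hCM p), ?_⟩
  refine ringKrullDim_quotient_of_minimal d (fun q => ?_)
  rw [fibreDimAt_away (S := S) _ (e d) q]
  have h1 : q.comap (algebraMap S (S ⧸ Ideal.span {1 - e d})) ∈
      (PrimeSpectrum.basicOpen (e d) : Set (PrimeSpectrum S)) := by
    intro h
    exact q.2.ne_top (Ideal.eq_top_of_isUnit_mem _ h (IsLocalization.Away.algebraMap_isUnit (e d)))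
  rw [heZ d] at h1
  exact h1

end K69.FibDecomp
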