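import Groth.Agent.S0393
import Groth.Agent.S0387
import Groth.Agent.Ega43.FibSpec
import Mathlib.Algebra.Module.LocalizedModule.Exact
import Mathlib.RingTheory.Flat.Equalizer
import Mathlib.RingTheory.Flat.Localization
import Mathlib.RingTheory.Spectrum.Prime.Module

/-!
# Injectivity of linear maps on the local rings of the fibres

For `R → S` of finite type with `R` Noetherian, `u : X → Y` a map of finite `S`-modules with `Y` flat over
`R` and a prime `q` of `S`: `u ⊗ S_q/pS_q` is injective iff `u_q` is injective with `R`-flat cokernel. Hence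
this is an open condition on `q`.
-/

set_option autoImplicit false
universe u

open TensorProduct

namespace K69.FibExact

theorem injective_iff_of_comm {X Y X' Y' : Type*} (eX : X ≃ X') (eY : Y ≃ Y') (f : X → Y)
    (g : X' → Y') (h : ∀ x, eY (f x) = g (eX x)) : Function.Injective f ↔ Function.Injective g := by
  rw [← eY.injective.of_comp_iff, ← Function.Injective.of_comp_iff' g eX.bijective]
  have : eY ∘ f = g ∘ eX := funext h
  rw [this]

/-- Injectivity modulo an ideal, by elements. -/
theorem injective_lTensor_quotient_iff {A : Type u} [CommRing A] (I : Ideal A) {X Y : Type u}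
    [AddCommGroup X] [Module A X] [AddCommGroup Y] [Module A Y] (u : X →ₗ[A] Y) :
    Function.Injective (u.lTensor (A ⧸ I)) ↔
      ∀ x : X, u x ∈ I • (⊤ : Submodule A Y) → x ∈ I • (⊤ : Submodule A X) := by
  have h1 : ∀ t, quotTensorEquivQuotSMul Y I (u.lTensor (A ⧸ I) t) =
      (I • (⊤ : Submodule A X)).mapQ (I • (⊤ : Submodule A Y)) u
        (Submodule.smul_top_le_comap_smul_top I u) (quotTensorEquivQuotSMul X I t) := by
    intro t
    induction t with
    | zero => simp
    | add x y hx hy => rw [map_add, map_add, map_add, map_add, hx, hy]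
    | tmul a x =>
      obtain ⟨a, rfl⟩ := Ideal.Quotient.mk_surjective a
      rw [LinearMap.lTensor_tmul, quotTensorEquivQuotSMul_mk_tmul, quotTensorEquivQuotSMul_mk_tmul,
        Submodule.mapQ_apply, map_smul]
  have h2 := injective_iff_of_comm (quotTensorEquivQuotSMul X I).toEquiv
    (quotTensorEquivQuotSMul Y I).toEquiv _ _ h1
  rw [h2, ← LinearMap.ker_eq_bot, Submodule.eq_bot_iff]
  constructor
  · intro h x hx
    have h3 := h (Submodule.Quotient.mk x) (by
      rw [LinearMap.mem_ker, Submodule.mapQ_apply, Submodule.Quotient.mk_eq_zero]; exact hx)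
    rwa [Submodule.Quotient.mk_eq_zero] at h3
  · intro h x hx
    obtain ⟨x, rfl⟩ := Submodule.Quotient.mk_surjective _ x
    rw [LinearMap.mem_ker, Submodule.mapQ_apply, Submodule.Quotient.mk_eq_zero] at hx
    rw [Submodule.Quotient.mk_eq_zero]
    exact h x hx

/-- Injectivity on the local ring of the fibre, by elements of the localizations. -/
theorem injective_lTensor_fib_iff {R S : Type u} [CommRing R] [CommRing S] [Algebra R S]
    (q : Ideal S) [q.IsPrime] {X Y : Type u} [AddCommGroup X] [Module S X] [AddCommGroup Y]
    [Module S Y] (u : X →ₗ[S] Y) :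
    Function.Injective (u.lTensor (EGA4.FibLocRing R S q)) ↔
      ∀ x : LocalizedModule q.primeCompl X, LocalizedModule.map q.primeCompl u x ∈
          (q.comap (algebraMap R S)).map (algebraMap R (Localization.AtPrime q)) •
            (⊤ : Submodule (Localization.AtPrime q) (LocalizedModule q.primeCompl Y)) →
        x ∈ (q.comap (algebraMap R S)).map (algebraMap R (Localization.AtPrime q)) •
            (⊤ : Submodule (Localization.AtPrime q) (LocalizedModule q.primeCompl X)) := by
  let J := (q.comap (algebraMap R S)).map (algebraMap R (Localization.AtPrime q))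
  let uq := LocalizedModule.map q.primeCompl u
  let hX := Groth.Agent.Ega43.FibSpec.isBaseChange_fib R X q
  let hY := Groth.Agent.Ega43.FibSpec.isBaseChange_fib R Y q
  have h1 : ∀ t, hY.equiv (u.lTensor (EGA4.FibLocRing R S q) t) =
      (J • (⊤ : Submodule (Localization.AtPrime q) (LocalizedModule q.primeCompl X))).mapQ
        (J • (⊤ : Submodule (Localization.AtPrime q) (LocalizedModule q.primeCompl Y))) uq
        (Submodule.smul_top_le_comap_smul_top J uq) (hX.equiv t) := by
    intro t
    induction t with
    | zero => simp
    | add x y hx hy => rw [map_add, map_add, map_add, map_add, hx, hy]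
    | tmul a x =>
      obtain ⟨a, rfl⟩ := Ideal.Quotient.mk_surjective a
      rw [LinearMap.lTensor_tmul, IsBaseChange.equiv_tmul, IsBaseChange.equiv_tmul]
      have h3 : uq (LocalizedModule.mkLinearMap q.primeCompl X x) =
          LocalizedModule.mkLinearMap q.primeCompl Y (u x) :=
        LocalizedModule.map_mk q.primeCompl u x 1
      change Submodule.Quotient.mk (a • LocalizedModule.mkLinearMap q.primeCompl Y (u x)) =
        Submodule.Quotient.mk (uq (a • LocalizedModule.mkLinearMap q.primeCompl X x))
      rw [map_smul, h3]
  have h2 := injective_iff_of_comm hX.equiv.toEquiv hY.equiv.toEquiv _ _ h1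
  rw [h2, ← LinearMap.ker_eq_bot, Submodule.eq_bot_iff]
  constructor
  · intro h x hx
    have h3 := h (Submodule.Quotient.mk x) (by
      rw [LinearMap.mem_ker, Submodule.mapQ_apply, Submodule.Quotient.mk_eq_zero]; exact hx)
    rwa [Submodule.Quotient.mk_eq_zero] at h3
  · intro h x hx
    obtain ⟨x, rfl⟩ := Submodule.Quotient.mk_surjective _ x
    rw [LinearMap.mem_ker, Submodule.mapQ_apply, Submodule.Quotient.mk_eq_zero] at hx
    rw [Submodule.Quotient.mk_eq_zero]
    exact h x hx

/-- Localizations (over `S`) of `R`-flat modules are `R`-flat. -/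
theorem flat_localizedModule {R S : Type u} [CommRing R] [CommRing S] [Algebra R S] (M : Submonoid S)
    (N : Type u) [AddCommGroup N] [Module S N] [Module R N] [IsScalarTower R S N] [Module.Flat R N] :
    Module.Flat R (LocalizedModule M N) := by
  rw [Module.Flat.iff_lTensor_preserves_injective_linearMap]
  intro P Q _ _ _ _ f hf
  have h1 : Function.Injective (AlgebraTensorModule.lTensor S N f) :=
    Module.Flat.lTensor_preserves_injective_linearMap (M := N) f hf
  have h2 := IsLocalizedModule.map_lTensor (R := R) S M f (LocalizedModule.mkLinearMap M N)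
  have h3 := IsLocalizedModule.map_injective M
    (AlgebraTensorModule.rTensor R P (LocalizedModule.mkLinearMap M N))
    (AlgebraTensorModule.rTensor R Q (LocalizedModule.mkLinearMap M N)) _ h1
  rw [h2] at h3
  exact h3

theorem mem_smul_top_iff {A B : Type u} [CommRing A] [CommRing B] [Algebra A B] {N : Type u}
    [AddCommGroup N] [Module A N] [Module B N] [IsScalarTower A B N] (I : Ideal A) (x : N) :
    x ∈ I • (⊤ : Submodule A N) ↔ x ∈ I.map (algebraMap A B) • (⊤ : Submodule B N) := by
  rw [← Submodule.restrictScalars_mem A (I.map (algebraMap A B) • (⊤ : Submodule B N)),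
    Ideal.smul_restrictScalars, Submodule.restrictScalars_top]

/-- The fibre criterion at a prime. -/
theorem injective_lTensor_iff {R S : Type u} [CommRing R] [CommRing S] [Algebra R S]
    [IsNoetherianRing S] {X Y : Type u} [AddCommGroup X] [Module S X] [Module.Finite S X]
    [AddCommGroup Y] [Module S Y] [Module R Y] [IsScalarTower R S Y] [Module.Flat R Y]
    (u : X →ₗ[S] Y) (q : Ideal S) [q.IsPrime] :
    Function.Injective (u.lTensor (EGA4.FibLocRing R S q)) ↔
      Function.Injective (LocalizedModule.map q.primeCompl u) ∧
        Module.Flat R (LocalizedModule q.primeCompl (Y ⧸ LinearMap.range u)) := by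
  let p := q.comap (algebraMap R S)
  have hover : q.LiesOver p := ⟨rfl⟩
  let _ := Localization.AtPrime.algebraOfLiesOver p q
  let A := Localization.AtPrime p
  let B := Localization.AtPrime q
  have halg : algebraMap A B = Localization.localRingHom p q (algebraMap R S) Ideal.LiesOver.over :=
    Localization.AtPrime.IsLiesOverAlgebra.algebraMap_eq (p := p) (P := q)
  have hloc : IsLocalHom (algebraMap A B) := by
    rw [halg]; infer_instance
  have hNB : IsNoetherianRing B := inferInstance
  let uq := LocalizedModule.map q.primeCompl u
  let _ : Module A (LocalizedModule q.primeCompl X) := Module.compHom _ (algebraMap A B)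
  let _ : Module A (LocalizedModule q.primeCompl Y) := Module.compHom _ (algebraMap A B)
  have hstX : IsScalarTower A B (LocalizedModule q.primeCompl X) :=
    IsScalarTower.of_algebraMap_smul fun _ _ => rfl
  have hstY : IsScalarTower A B (LocalizedModule q.primeCompl Y) :=
    IsScalarTower.of_algebraMap_smul fun _ _ => rfl
  have hstR : IsScalarTower R A (LocalizedModule q.primeCompl Y) := by
    refine IsScalarTower.of_algebraMap_smul fun r x => ?_
    change (algebraMap A B (algebraMap R A r)) • x = r • x
    rw [← IsScalarTower.algebraMap_apply R A B, IsScalarTower.algebraMap_apply R S B,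
      algebraMap_smul, algebraMap_smul]
  have hmap : (IsLocalRing.maximalIdeal A).map (algebraMap A B) =
      (q.comap (algebraMap R S)).map (algebraMap R B) := by
    rw [← Localization.AtPrime.map_eq_maximalIdeal, Ideal.map_map, ← IsScalarTower.algebraMap_eq]
  have hflA : Module.Flat A (LocalizedModule q.primeCompl Y) :=
    (Module.flat_iff_of_isLocalization A p.primeCompl _).mpr (flat_localizedModule q.primeCompl Y)
  have h1 : Function.Injective (u.lTensor (EGA4.FibLocRing R S q)) ↔
      Function.Injective ((uq.restrictScalars A).lTensor (A ⧸ IsLocalRing.maximalIdeal A)) := by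
    rw [injective_lTensor_fib_iff, injective_lTensor_quotient_iff]
    refine forall_congr' fun x => ?_
    have hX := mem_smul_top_iff (A := A) (B := B) (N := LocalizedModule q.primeCompl X)
      (IsLocalRing.maximalIdeal A) x
    have hY := mem_smul_top_iff (A := A) (B := B) (N := LocalizedModule q.primeCompl Y)
      (IsLocalRing.maximalIdeal A) (uq x)
    rw [hmap] at hX hY
    exact imp_congr hY.symm hX.symm
  rw [h1]
  let Z := LocalizedModule q.primeCompl (Y ⧸ LinearMap.range u)
  let _ : Module A Z := Module.compHom _ (algebraMap A B)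
  have hstZ : IsScalarTower A B Z := IsScalarTower.of_algebraMap_smul fun _ _ => rfl
  have hstZR : IsScalarTower R A Z := by
    refine IsScalarTower.of_algebraMap_smul fun r x => ?_
    change (algebraMap A B (algebraMap R A r)) • x = r • x
    rw [← IsScalarTower.algebraMap_apply R A B, IsScalarTower.algebraMap_apply R S B,
      algebraMap_smul, algebraMap_smul]
  let θ : LocalizedModule q.primeCompl Y →ₗ[B] Z :=
    LocalizedModule.map q.primeCompl (LinearMap.range u).mkQ
  have hθ : Function.Surjective θ :=
    LocalizedModule.map_surjective q.primeCompl _ (Submodule.mkQ_surjective _)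
  have hex : Function.Exact uq θ :=
    LocalizedModule.map_exact q.primeCompl u (LinearMap.range u).mkQ
      (LinearMap.exact_map_mkQ_range u)
  constructor
  · intro h
    obtain ⟨h2, h3⟩ := Groth.Agent.S0393.result (R := A) (S := B) (uq.restrictScalars A) h
    refine ⟨h2, ?_⟩
    rw [← Module.flat_iff_of_isLocalization A p.primeCompl Z]
    have hex' : LinearMap.range (uq.restrictScalars A) = LinearMap.ker (θ.restrictScalars A) :=
      (LinearMap.exact_iff (f := uq.restrictScalars A) (g := θ.restrictScalars A)).mp hex |>.symm
    exact Module.Flat.of_linearEquiv ((Submodule.quotEquivOfEq _ _ hex').trans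
      ((θ.restrictScalars A).quotKerEquivOfSurjective hθ)).symm
  · rintro ⟨h2, h3⟩
    have h4 : Module.Flat A Z := (Module.flat_iff_of_isLocalization A p.primeCompl Z).mpr h3
    exact LinearMap.lTensor_injective_of_exact_of_flat (θ.restrictScalars A) hθ
      (uq.restrictScalars A) h2 hex _

theorem injective_map_iff {S : Type u} [CommRing S] {X Y : Type u} [AddCommGroup X] [Module S X]
    [AddCommGroup Y] [Module S Y] (u : X →ₗ[S] Y) (q : PrimeSpectrum S) :
    Function.Injective (LocalizedModule.map q.asIdeal.primeCompl u) ↔
      q ∉ Module.support S (LinearMap.ker u) := by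
  rw [Module.notMem_support_iff', ← LinearMap.ker_eq_bot, Submodule.eq_bot_iff]
  constructor
  · intro h m
    have h1 := h (LocalizedModule.mk m.1 1) (by
      rw [LinearMap.mem_ker, LocalizedModule.map_mk, m.2, LocalizedModule.zero_mk])
    rw [← LocalizedModule.zero_mk (1 : q.asIdeal.primeCompl), LocalizedModule.mk_eq] at h1
    obtain ⟨t, ht⟩ := h1
    refine ⟨t.1, t.2, Subtype.ext ?_⟩
    simpa [Submonoid.smul_def] using ht
  · intro h x hx
    induction x with
    | _ m s =>
    rw [LinearMap.mem_ker, LocalizedModule.map_mk, ← LocalizedModule.zero_mk s,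
      LocalizedModule.mk_eq] at hx
    obtain ⟨t, ht⟩ := hx
    have h1 : u ((t * s : S) • m) = 0 := by
      rw [map_smul, mul_smul]
      simpa [Submonoid.smul_def] using ht
    obtain ⟨r, hr, hr'⟩ := h ⟨(t * s : S) • m, h1⟩
    have h2 : (r * (t * s : S)) • m = 0 := by
      rw [mul_smul]
      exact congrArg Subtype.val hr'
    rw [← LocalizedModule.zero_mk s, LocalizedModule.mk_eq]
    refine ⟨⟨r * (t * s), q.asIdeal.primeCompl.mul_mem hr
      (q.asIdeal.primeCompl.mul_mem t.2 s.2)⟩, ?_⟩
    simp only [Submonoid.smul_def, smul_zero]
    rw [smul_comm, h2, smul_zero]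

/-- Openness of the locus of injectivity on the fibres. -/
theorem isOpen_setOf_injective {R S : Type u} [CommRing R] [IsNoetherianRing R] [CommRing S]
    [Algebra R S] [Algebra.FiniteType R S] {X Y : Type u} [AddCommGroup X] [Module S X]
    [Module.Finite S X] [AddCommGroup Y] [Module S Y] [Module R Y] [IsScalarTower R S Y]
    [Module.Flat R Y] [Module.Finite S Y] (u : X →ₗ[S] Y) :
    IsOpen {q : PrimeSpectrum S | Function.Injective (u.lTensor (EGA4.FibLocRing R S q.asIdeal))} := by
  have hN : IsNoetherianRing S := Algebra.FiniteType.isNoetherianRing R S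
  have hfp : Algebra.FinitePresentation R S := Algebra.FinitePresentation.of_finiteType.mp inferInstance
  have hfpY : Module.FinitePresentation S (Y ⧸ LinearMap.range u) :=
    Module.finitePresentation_of_finite S _
  have h1 : {q : PrimeSpectrum S | Function.Injective (u.lTensor (EGA4.FibLocRing R S q.asIdeal))} =
      (Module.support S (LinearMap.ker u))ᶜ ∩ {q : PrimeSpectrum S |
        Module.Flat R (LocalizedModule q.asIdeal.primeCompl (Y ⧸ LinearMap.range u))} := by
    ext q
    rw [Set.mem_inter_iff, Set.mem_compl_iff, ← injective_map_iff, Set.mem_setOf_eq,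
      injective_lTensor_iff]
    rfl
  rw [h1]
  exact Module.isClosed_support.isOpen_compl.inter Groth.Agent.S0387.result

end K69.FibExact
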