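import Groth.Agent.CAlg.K69.FibExact
import Mathlib.LinearAlgebra.Matrix.ToLin
import Mathlib.LinearAlgebra.TensorProduct.Pi
import Mathlib.LinearAlgebra.TensorProduct.RightExactness

/-!
# Openness of the exactness of a complex of free modules on the local rings of the fibres
-/

set_option autoImplicit false
universe u

open TensorProduct

namespace K69.FibExact

/-- Base change of a matrix. -/
theorem piScalarRight_lTensor {S : Type u} [CommRing S] (T : Type u) [CommRing T] [Algebra S T] {m n : ℕ}
    (Φ : Matrix (Fin m) (Fin n) S) (t : T ⊗[S] (Fin n → S)) :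
    TensorProduct.piScalarRight S T T (Fin m) (Φ.mulVecLin.lTensor T t) =
      (Φ.map (algebraMap S T)).mulVecLin (TensorProduct.piScalarRight S T T (Fin n) t) := by
  induction t with
  | zero => simp
  | add x y hx hy => rw [map_add, map_add, map_add, map_add, hx, hy]
  | tmul a x =>
    rw [LinearMap.lTensor_tmul, TensorProduct.piScalarRight_apply, TensorProduct.piScalarRight_apply,
      TensorProduct.piScalarRightHom_tmul, TensorProduct.piScalarRightHom_tmul]
    ext i
    simp only [Matrix.mulVecLin_apply, Matrix.mulVec, dotProduct, Matrix.map_apply,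
      Algebra.smul_def, map_mul, map_sum, Finset.sum_mul, mul_assoc]

theorem injective_matrix_iff {S : Type u} [CommRing S] (T : Type u) [CommRing T] [Algebra S T]
    {m n : ℕ} (Φ : Matrix (Fin m) (Fin n) S) :
    Function.Injective ((Φ.map (algebraMap S T)).mulVecLin) ↔
      Function.Injective (Φ.mulVecLin.lTensor T) :=
  (injective_iff_of_comm (TensorProduct.piScalarRight S T T (Fin n)).toEquiv
    (TensorProduct.piScalarRight S T T (Fin m)).toEquiv _ _ (piScalarRight_lTensor T Φ)).symm

theorem exact_matrix_iff {S : Type u} [CommRing S] (T : Type u) [CommRing T] [Algebra S T]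
    {l m n : ℕ} (Φ : Matrix (Fin l) (Fin m) S) (Ψ : Matrix (Fin m) (Fin n) S) :
    LinearMap.ker ((Φ.map (algebraMap S T)).mulVecLin) =
        LinearMap.range ((Ψ.map (algebraMap S T)).mulVecLin) ↔
      Function.Exact (Ψ.mulVecLin.lTensor T) (Φ.mulVecLin.lTensor T) := by
  rw [← LinearMap.exact_iff]
  constructor
  · intro h x
    have hx := h (TensorProduct.piScalarRight S T T (Fin m) x)
    rw [← piScalarRight_lTensor, LinearEquiv.map_eq_zero_iff] at hx
    rw [hx]
    constructor
    · rintro ⟨y, hy⟩
      refine ⟨(TensorProduct.piScalarRight S T T (Fin n)).symm y, ?_⟩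
      apply (TensorProduct.piScalarRight S T T (Fin m)).injective
      rw [piScalarRight_lTensor, LinearEquiv.apply_symm_apply, hy]
    · rintro ⟨y, rfl⟩
      exact ⟨TensorProduct.piScalarRight S T T (Fin n) y, (piScalarRight_lTensor T Ψ y).symm⟩
  · intro h x
    obtain ⟨x, rfl⟩ := (TensorProduct.piScalarRight S T T (Fin m)).surjective x
    rw [← piScalarRight_lTensor, LinearEquiv.map_eq_zero_iff, h x]
    constructor
    · rintro ⟨y, rfl⟩
      exact ⟨TensorProduct.piScalarRight S T T (Fin n) y, (piScalarRight_lTensor T Ψ y).symm⟩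
    · rintro ⟨y, hy⟩
      refine ⟨(TensorProduct.piScalarRight S T T (Fin n)).symm y, ?_⟩
      apply (TensorProduct.piScalarRight S T T (Fin m)).injective
      rw [piScalarRight_lTensor, LinearEquiv.apply_symm_apply, hy]

/-- Exactness after base change as injectivity from the cokernel. -/
theorem exact_lTensor_iff {S : Type u} [CommRing S] (T : Type u) [CommRing T] [Algebra S T]
    {K X Y : Type u} [AddCommGroup K] [Module S K] [AddCommGroup X] [Module S X] [AddCommGroup Y]
    [Module S Y] (g : K →ₗ[S] X) (f : X →ₗ[S] Y) (h : LinearMap.range g ≤ LinearMap.ker f) :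
    Function.Exact (g.lTensor T) (f.lTensor T) ↔
      Function.Injective (((LinearMap.range g).liftQ f h).lTensor T) := by
  let π : X →ₗ[S] X ⧸ LinearMap.range g := (LinearMap.range g).mkQ
  have h1 : Function.Exact (g.lTensor T) (π.lTensor T) :=
    lTensor_exact T (LinearMap.exact_map_mkQ_range g) (Submodule.mkQ_surjective _)
  have h2 : Function.Surjective (π.lTensor T) :=
    LinearMap.lTensor_surjective T (Submodule.mkQ_surjective _)
  have h3 : ∀ x, ((LinearMap.range g).liftQ f h).lTensor T (π.lTensor T x) = f.lTensor T x := by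
    intro x
    rw [← LinearMap.comp_apply, ← LinearMap.lTensor_comp, Submodule.liftQ_mkQ]
  constructor
  · intro hex
    rw [← LinearMap.ker_eq_bot, Submodule.eq_bot_iff]
    intro y hy
    obtain ⟨x, rfl⟩ := h2 y
    rw [LinearMap.mem_ker, h3] at hy
    exact (h1 x).mpr ((hex x).mp hy)
  · intro hinj x
    rw [← h3, map_eq_zero_iff _ hinj]
    exact h1 x

theorem isOpen_exact {R S : Type u} [CommRing R] [IsNoetherianRing R] [CommRing S]
    [Algebra R S] [Algebra.FiniteType R S] [Module.Flat R S]
    (e : ℕ) (n : ℕ → ℕ) (φ : (i : ℕ) → Matrix (Fin (n i)) (Fin (n (i + 1))) S)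
    (hφ : ∀ i, i + 2 ≤ e → φ i * φ (i + 1) = 0) :
    IsOpen {q : PrimeSpectrum S |
      (∀ i, i + 2 ≤ e →
        LinearMap.ker (Matrix.mulVecLin ((φ i).map (algebraMap S (EGA4.FibLocRing R S q.asIdeal)))) =
          LinearMap.range (Matrix.mulVecLin ((φ (i + 1)).map (algebraMap S (EGA4.FibLocRing R S q.asIdeal))))) ∧
      (1 ≤ e → Function.Injective
        (Matrix.mulVecLin ((φ (e - 1)).map (algebraMap S (EGA4.FibLocRing R S q.asIdeal)))))} := by
  have hle : ∀ i, i + 2 ≤ e → LinearMap.range (φ (i + 1)).mulVecLin ≤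
      LinearMap.ker (φ i).mulVecLin := by
    intro i hi
    rw [LinearMap.range_le_ker_iff, ← Matrix.mulVecLin_mul, hφ i hi, Matrix.mulVecLin_zero]
  have hfl : ∀ k : ℕ, Module.Flat R (Fin k → S) := fun k => Module.Flat.trans R S _
  have h1 : {q : PrimeSpectrum S |
      (∀ i, i + 2 ≤ e →
        LinearMap.ker (Matrix.mulVecLin ((φ i).map (algebraMap S (EGA4.FibLocRing R S q.asIdeal)))) =
          LinearMap.range (Matrix.mulVecLin ((φ (i + 1)).map (algebraMap S (EGA4.FibLocRing R S q.asIdeal))))) ∧
      (1 ≤ e → Function.Injective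
        (Matrix.mulVecLin ((φ (e - 1)).map (algebraMap S (EGA4.FibLocRing R S q.asIdeal)))))} =
      (⋂ i : Fin (e - 1), {q : PrimeSpectrum S | Function.Injective
        (((LinearMap.range (φ (i + 1)).mulVecLin).liftQ (φ i).mulVecLin
          (hle i (by omega))).lTensor (EGA4.FibLocRing R S q.asIdeal))}) ∩
      {q : PrimeSpectrum S | 1 ≤ e → Function.Injective
        ((φ (e - 1)).mulVecLin.lTensor (EGA4.FibLocRing R S q.asIdeal))} := by
    ext q
    simp only [Set.mem_inter_iff, Set.mem_iInter, Set.mem_setOf_eq]
    refine and_congr ?_ ?_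
    · constructor
      · intro h i
        rw [← exact_lTensor_iff, ← exact_matrix_iff]
        exact h i (by omega)
      · intro h i hi
        rw [exact_matrix_iff, exact_lTensor_iff _ _ _ (hle i hi)]
        exact h ⟨i, by omega⟩
    · refine forall_congr' fun _ => ?_
      rw [injective_matrix_iff]
  rw [h1]
  refine IsOpen.inter (isOpen_iInter_of_finite fun i => ?_) ?_
  · have := hfl (n i)
    exact isOpen_setOf_injective _
  · by_cases he : 1 ≤ e
    · have := hfl (n (e - 1))
      have h2 : {q : PrimeSpectrum S | 1 ≤ e → Function.Injective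
        ((φ (e - 1)).mulVecLin.lTensor (EGA4.FibLocRing R S q.asIdeal))} =
        {q : PrimeSpectrum S | Function.Injective
        ((φ (e - 1)).mulVecLin.lTensor (EGA4.FibLocRing R S q.asIdeal))} := by
        ext q
        simp [he]
      rw [h2]
      exact isOpen_setOf_injective _
    · have h2 : {q : PrimeSpectrum S | 1 ≤ e → Function.Injective
        ((φ (e - 1)).mulVecLin.lTensor (EGA4.FibLocRing R S q.asIdeal))} = Set.univ := by
        ext q
        simp [he]
      rw [h2]
      exact isOpen_univ

end K69.FibExact
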