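import Mathlib.RingTheory.EssentialFiniteness
import Mathlib.RingTheory.LocalRing.RingHom.Basic

/-! The localization of a subalgebra inside the ambient algebra, at the elements which are units. -/

set_option autoImplicit false

namespace K69.LocSub

variable {k R : Type*} [CommRing k] [CommRing R] [Algebra k R]

/-- Fractions `a / s` with `a, s ∈ A`, `s` a unit of `R`. -/
def loc (A : Subalgebra k R) : Subalgebra k R where
  carrier := {x | ∃ s ∈ A, IsUnit s ∧ x * s ∈ A}
  mul_mem' := by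
    rintro x y ⟨s, hs, hsu, h1⟩ ⟨t, ht, htu, h2⟩
    refine ⟨s * t, mul_mem hs ht, hsu.mul htu, ?_⟩
    have := mul_mem h1 h2
    convert this using 1
    ring
  add_mem' := by
    rintro x y ⟨s, hs, hsu, h1⟩ ⟨t, ht, htu, h2⟩
    refine ⟨s * t, mul_mem hs ht, hsu.mul htu, ?_⟩
    have := add_mem (mul_mem h1 ht) (mul_mem h2 hs)
    convert this using 1
    ring
  algebraMap_mem' := fun r => ⟨1, one_mem A, isUnit_one, by rw [mul_one]; exact A.algebraMap_mem r⟩

theorem mem_loc {A : Subalgebra k R} {x : R} : x ∈ loc A ↔ ∃ s ∈ A, IsUnit s ∧ x * s ∈ A := Iff.rfl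

theorem le_loc (A : Subalgebra k R) : A ≤ loc A := fun x hx =>
  ⟨1, one_mem A, isUnit_one, by rwa [mul_one]⟩

theorem isUnit_of_isUnit {A : Subalgebra k R} (x : loc A) (hx : IsUnit (x : R)) : IsUnit x := by
  obtain ⟨x, s, hs, hsu, h⟩ := x
  obtain ⟨y, hy⟩ := hx.exists_right_inv
  have hy' : y ∈ loc A := ⟨x * s, h, hx.mul hsu, by
    have : y * (x * s) = s := by
      have h1 : y * (x * s) = (x * y) * s := by ring
      rw [h1, hy, one_mul]
    rwa [this]⟩
  exact isUnit_iff_exists_inv.mpr ⟨⟨y, hy'⟩, Subtype.ext hy⟩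

theorem essFiniteType (E : Finset R) : Algebra.EssFiniteType k (loc (Algebra.adjoin k (E : Set R))) := by
  classical
  set A := Algebra.adjoin k (E : Set R) with hA
  have hE : ∀ x ∈ E, x ∈ loc A := fun x hx => le_loc A (Algebra.subset_adjoin hx)
  let σ : Finset (loc A) := E.attach.image (fun x => ⟨x.1, hE x.1 x.2⟩)
  have hσ : (Algebra.adjoin k (σ : Set (loc A))).map (loc A).val = A := by
    rw [AlgHom.map_adjoin]
    refine Eq.trans ?_ hA.symm
    congr 1
    ext x
    simp only [σ, Set.mem_image, Finset.mem_coe, Finset.mem_image, Finset.mem_attach, true_and,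
      Subtype.exists]
    constructor
    · rintro ⟨_, _, ⟨a, ha, hx⟩, rfl⟩
      have : a = _ := congrArg Subtype.val hx
      subst this
      exact ha
    · intro hx
      exact ⟨x, hE x hx, ⟨x, hx, rfl⟩, rfl⟩
  have hmem : ∀ (x : R) (hx : x ∈ A), (⟨x, le_loc A hx⟩ : loc A) ∈
      Algebra.adjoin k (σ : Set (loc A)) := by
    intro x hx
    have h1 : x ∈ (Algebra.adjoin k (σ : Set (loc A))).map (loc A).val := by rw [hσ]; exact hx
    obtain ⟨y, hy, rfl⟩ := h1
    exact hy
  rw [Algebra.essFiniteType_iff]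
  refine ⟨σ, ?_⟩
  rintro ⟨x, s, hs, hsu, h⟩
  refine ⟨⟨s, le_loc A hs⟩, hmem s hs, isUnit_of_isUnit _ hsu, ?_⟩
  exact hmem _ h

end K69.LocSub
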