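import Groth.Agent.Flat2B.LST1
import Groth.Agent.CycB.TrdegAlg
import Groth.Agent.Ega43.FibreDimAlg
import Groth.Agent.CalgC.LocalDim

/-!
# Quasi-finite maps to affine space adapted to a point, after localization

`exists_quasiFinite`: for `R → S` of finite type, a prime `q` over `p` with fibre of local dimension `n` at the
point of `q` and `κ(q)` of transcendence degree `r` over `κ(p)` there are `g ∉ q` and a quasi-finite
`R[x_1, …, x_n] → S_g` such that the preimage of `q` is `(p, x_{r+1}, …, x_n)`.
-/

set_option autoImplicit false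

universe u

namespace K69.QFAffine

open TensorProduct MvPolynomial Groth.Agent.Flat2B.LST1 Groth.Agent.CycB.TrdegAlg

/-- primes of the fibre ring are extended -/
theorem eq_fiberIdeal {R S : Type u} [CommRing R] [CommRing S] [Algebra R S]
    (p : Ideal R) [p.IsPrime] (q : Ideal S) (Q : Ideal (p.Fiber S))
    (hQ : Q.comap (Algebra.TensorProduct.includeRight.toRingHom : S →+* p.Fiber S) = q) :
    Q = FlatCA.fiberIdeal p q := by
  subst hQ
  refine le_antisymm ?_ (Ideal.map_le_iff_le_comap.mpr le_rfl)
  intro z hz
  obtain ⟨r, hr, s, hs⟩ := Ideal.Fiber.exists_smul_eq_one_tmul p z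
  have hru : IsUnit (algebraMap R (p.Fiber S) r) := by
    have : IsUnit (algebraMap R p.ResidueField r) :=
      (IsUnit.mk0 _ fun h => hr (Ideal.algebraMap_residueField_eq_zero.mp h))
    rw [IsScalarTower.algebraMap_apply R p.ResidueField (p.Fiber S)]
    exact this.map _
  rw [← Ideal.unit_mul_mem_iff_mem _ hru, ← Algebra.smul_def, hs]
  refine Ideal.mem_map_of_mem (Algebra.TensorProduct.includeRight.toRingHom : S →+* p.Fiber S)
    (x := s) ?_
  rw [Ideal.mem_comap]
  change (1 ⊗ₜ s : p.Fiber S) ∈ Q
  rw [← hs, Algebra.smul_def]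
  exact Ideal.mul_mem_left _ _ hz

/-- The residue field is generated by fractions. -/
theorem fracGen_residueField {R : Type u} [CommRing R] (p : Ideal R) [p.IsPrime] :
    FracGen (algebraMap R p.ResidueField) := by
  intro z
  obtain ⟨⟨x, y⟩, hxy⟩ := IsLocalization.surj (nonZeroDivisors (R ⧸ p)) z
  obtain ⟨x, rfl⟩ := Ideal.Quotient.mk_surjective x
  obtain ⟨y', hy'⟩ := Ideal.Quotient.mk_surjective y.1
  refine ⟨x, y', ?_, ?_⟩
  · intro h0
    have : y' ∈ p := (Ideal.algebraMap_residueField_eq_zero).mp h0
    have h1 : (y : R ⧸ p) = 0 := by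
      rw [← hy', Ideal.Quotient.eq_zero_iff_mem]; exact this
    exact nonZeroDivisors.ne_zero y.2 h1
  · have e : ∀ r : R, algebraMap R p.ResidueField r =
        algebraMap (R ⧸ p) p.ResidueField (Ideal.Quotient.mk p r) := fun r =>
      IsScalarTower.algebraMap_apply R (R ⧸ p) p.ResidueField r
    rw [e, e, hy']
    exact hxy

/-- transcendence degree of a residue field extension, by quotients -/
theorem trd_residueField {R S : Type u} [CommRing R] [CommRing S] [Algebra R S]
    (p : Ideal R) [p.IsPrime] (q : Ideal S) [q.IsPrime] (θ : p.ResidueField →+* q.ResidueField)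
    (hθ : ∀ a : R, θ (algebraMap R p.ResidueField a) = algebraMap S q.ResidueField (algebraMap R S a))
    (h : p ≤ q.comap (algebraMap R S)) :
    trd θ = trd (Ideal.quotientMap q (algebraMap R S) h) :=
  trd_eq_trd_quotientMap (algebraMap R S) (algebraMap R p.ResidueField)
    (algebraMap S q.ResidueField) θ (RingHom.ext hθ) (fracGen_residueField p)
    (fracGen_residueField q) p (Ideal.ker_algebraMap_residueField p).symm q
    (Ideal.ker_algebraMap_residueField q).symm h

/-- The residue field of a prime of the fibre ring is generated by fractions of elements of `S`. -/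
theorem fracGen_fiber {R S : Type u} [CommRing R] [CommRing S] [Algebra R S]
    (p : Ideal R) [p.IsPrime] (Q : Ideal (p.Fiber S)) [Q.IsPrime] :
    FracGen ((algebraMap (p.Fiber S) Q.ResidueField).comp
      (Algebra.TensorProduct.includeRight.toRingHom : S →+* p.Fiber S)) := by
  intro z
  have hu : ∀ r : R, r ∉ p → algebraMap (p.Fiber S) Q.ResidueField
      (algebraMap R (p.Fiber S) r) ≠ 0 := by
    intro r hr
    have : IsUnit (algebraMap R p.ResidueField r) :=
      (IsUnit.mk0 _ fun h => hr (Ideal.algebraMap_residueField_eq_zero.mp h))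
    rw [IsScalarTower.algebraMap_apply R p.ResidueField (p.Fiber S)]
    exact ((this.map (algebraMap p.ResidueField (p.Fiber S))).map
      (algebraMap (p.Fiber S) Q.ResidueField)).ne_zero
  obtain ⟨a, b, hb, hab⟩ := fracGen_residueField Q z
  obtain ⟨r, hr, s, hs⟩ := Ideal.Fiber.exists_smul_eq_one_tmul p a
  obtain ⟨t, ht, v, hv⟩ := Ideal.Fiber.exists_smul_eq_one_tmul p b
  have hs' : (Algebra.TensorProduct.includeRight.toRingHom : S →+* p.Fiber S) s =
      algebraMap R (p.Fiber S) r * a := by
    rw [← Algebra.smul_def]; exact hs.symm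
  have hv' : (Algebra.TensorProduct.includeRight.toRingHom : S →+* p.Fiber S) v =
      algebraMap R (p.Fiber S) t * b := by
    rw [← Algebra.smul_def]; exact hv.symm
  have hR : ∀ r : R, (Algebra.TensorProduct.includeRight.toRingHom : S →+* p.Fiber S)
      (algebraMap R S r) = algebraMap R (p.Fiber S) r := fun r =>
    (Algebra.TensorProduct.includeRight : S →ₐ[R] p.Fiber S).commutes r
  refine ⟨algebraMap R S t * s, algebraMap R S r * v, ?_, ?_⟩
  · rw [RingHom.comp_apply, map_mul, hR, hv', map_mul, map_mul]
    exact mul_ne_zero (hu r hr) (mul_ne_zero (hu t ht) hb)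
  · have e1 : ((algebraMap (p.Fiber S) Q.ResidueField).comp
        (Algebra.TensorProduct.includeRight.toRingHom : S →+* p.Fiber S)) (algebraMap R S r * v) =
        algebraMap (p.Fiber S) Q.ResidueField (algebraMap R (p.Fiber S) r) *
        (algebraMap (p.Fiber S) Q.ResidueField (algebraMap R (p.Fiber S) t) *
          algebraMap (p.Fiber S) Q.ResidueField b) := by
      rw [RingHom.comp_apply, map_mul, hR, hv', map_mul, map_mul]
    have e2 : ((algebraMap (p.Fiber S) Q.ResidueField).comp
        (Algebra.TensorProduct.includeRight.toRingHom : S →+* p.Fiber S)) (algebraMap R S t * s) =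
        algebraMap (p.Fiber S) Q.ResidueField (algebraMap R (p.Fiber S) t) *
        (algebraMap (p.Fiber S) Q.ResidueField (algebraMap R (p.Fiber S) r) *
          algebraMap (p.Fiber S) Q.ResidueField a) := by
      rw [RingHom.comp_apply, map_mul, hR, hs', map_mul, map_mul]
    rw [e1, e2, ← hab]
    ring

/-- transcendence degree of the residue field of a prime of the fibre ring -/
theorem trd_fiber {R S : Type u} [CommRing R] [CommRing S] [Algebra R S]
    (p : Ideal R) [p.IsPrime] (q : Ideal S) (Q : Ideal (p.Fiber S)) [Q.IsPrime]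
    (hQ : Q.comap (Algebra.TensorProduct.includeRight.toRingHom : S →+* p.Fiber S) = q)
    (h : p ≤ q.comap (algebraMap R S)) :
    trd ((algebraMap (p.Fiber S) Q.ResidueField).comp (algebraMap p.ResidueField (p.Fiber S))) =
      trd (Ideal.quotientMap q (algebraMap R S) h) := by
  refine trd_eq_trd_quotientMap (algebraMap R S) (algebraMap R p.ResidueField)
    ((algebraMap (p.Fiber S) Q.ResidueField).comp
      (Algebra.TensorProduct.includeRight.toRingHom : S →+* p.Fiber S))
    _ ?_ (fracGen_residueField p)
    (fracGen_fiber p Q) p (Ideal.ker_algebraMap_residueField p).symm q ?_ h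
  · ext a
    have hR : (Algebra.TensorProduct.includeRight.toRingHom : S →+* p.Fiber S)
        (algebraMap R S a) = algebraMap R (p.Fiber S) a :=
      (Algebra.TensorProduct.includeRight : S →ₐ[R] p.Fiber S).commutes a
    rw [RingHom.comp_apply, RingHom.comp_apply, RingHom.comp_apply, RingHom.comp_apply, hR,
      ← IsScalarTower.algebraMap_apply R p.ResidueField (p.Fiber S)]
  · rw [← hQ, ← RingHom.comap_ker, Ideal.ker_algebraMap_residueField]

/-- the transcendence degree of the residue field does not change under a finite map -/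
theorem trdeg_comap {k A B : Type u} [Field k] [CommRing A] [CommRing B] [Algebra k A]
    [Algebra k B] [Algebra.FiniteType k A] [Algebra.FiniteType k B] (ψ : A →ₐ[k] B)
    (hψ : ψ.Finite) (Q : Ideal B) [Q.IsPrime] :
    Algebra.trdeg k (Q.comap ψ).ResidueField =
      trd ((algebraMap B Q.ResidueField).comp (algebraMap k B)) := by
  rw [← IsScalarTower.algebraMap_eq, trd_algebraMap]
  algebraize [ψ.toRingHom]
  have hfin : Module.Finite A B := hψ
  have hP : Q.LiesOver (Q.comap ψ) := ⟨rfl⟩
  have : IsScalarTower k A B := .of_algebraMap_eq' ψ.comp_algebraMap.symm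
  let P : Ideal A := Q.comap ψ
  have e1 := Groth.Agent.CalgC.LocalDim.trdeg_residueField_eq k P
  have e2 := Groth.Agent.CalgC.LocalDim.trdeg_residueField_eq k Q
  rw [e1, e2]
  have h := lift_trdeg_add_eq k (A ⧸ P) (B ⧸ Q)
  rw [trdeg_eq_zero (R := A ⧸ P) (A := B ⧸ Q)] at h
  simpa using h

end K69.QFAffine
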