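import Groth.Agent.CAlg.K69.QFAffine

/-!
# Quasi-finite maps to affine space adapted to a point, II
-/

set_option autoImplicit false

universe u

namespace K69.QFAffine

open TensorProduct MvPolynomial Groth.Agent.Flat2B.LST1 Groth.Agent.CycB.TrdegAlg

/-- a map quasi-finite at the point of `q`, with the preimage of `q` prescribed -/
theorem exists_quasiFiniteAt {R S : Type u} [CommRing R] [CommRing S] [Algebra R S]
    [Algebra.FiniteType R S]
    (p : Ideal R) [p.IsPrime] (q : Ideal S) [q.IsPrime] [q.LiesOver p] (n r : ℕ)
    (x : PrimeSpectrum (p.Fiber S))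
    (hx : x.asIdeal.comap (Algebra.TensorProduct.includeRight.toRingHom : S →+* p.Fiber S) = q)
    (hn : FlatMor.localDim (PrimeSpectrum (p.Fiber S)) x = n)
    (hr : trd (Ideal.quotientMap q (algebraMap R S) (Ideal.over_def q p).le) = r) :
    ∃ (g : S) (φ : MvPolynomial (Fin n) R →ₐ[R] Localization.Away g)
      (Q : Ideal (Localization.Away g)) (_ : Q.IsPrime), g ∉ q ∧
      Q.comap (algebraMap S (Localization.Away g)) = q ∧
      Q.comap φ.toRingHom = p.map C ⊔ Ideal.span (X '' {i : Fin n | r ≤ (i : ℕ)}) ∧
      φ.toRingHom.QuasiFiniteAt Q := by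
  have hxq : x.asIdeal = FlatCA.fiberIdeal p q := eq_fiberIdeal p q x.asIdeal hx
  obtain ⟨g, hgq, hgx, hdim⟩ := exists_away p q n x hxq hn
  obtain ⟨f, hf, hfr, hfi⟩ := exists_isOpenEmbedding_fiber p g
  obtain ⟨QA, hQA⟩ : x ∈ Set.range f := by rw [hfr]; exact hgx
  have : Nontrivial (p.Fiber (Localization.Away g)) := ⟨0, 1, fun h ↦ QA.isPrime.ne_top
    ((Ideal.eq_top_iff_one _).mpr (by rw [← h]; exact zero_mem _))⟩
  obtain ⟨s, ψ, hψ, hψf⟩ := exists_finite_inj_algHom_of_fg p.ResidueField (p.Fiber (Localization.Away g))
  have hs : s = n := by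
    have := ringKrullDim_eq_of_finite_inj s ψ hψ hψf
    rw [hdim] at this
    exact_mod_cast this.symm
  subst hs
  let Q : Ideal (Localization.Away g) := QA.asIdeal.comap (Algebra.TensorProduct.includeRight (R := R)
    (A := p.ResidueField) (B := Localization.Away g)).toRingHom
  have hQq : Q.comap (algebraMap S (Localization.Away g)) = q := by
    rw [← comap_fiberIdeal p q, ← hxq, ← hQA, hfi]
    ext s
    simp only [Q, Ideal.mem_comap, AlgHom.toRingHom_eq_coe, RingHom.coe_coe,
      Algebra.TensorProduct.includeRight_apply, Algebra.TensorProduct.map_tmul, AlgHom.id_apply]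
    rfl
  have hQp : Q.comap (algebraMap R (Localization.Away g)) = p :=
    comap_algebraMap_of_fiber p QA.asIdeal
  -- the transcendence degree
  have hr' : Algebra.trdeg p.ResidueField (QA.asIdeal.comap ψ).ResidueField = r := by
    rw [trdeg_comap ψ hψf QA.asIdeal, ← hr]
    refine (trd_fiber p Q QA.asIdeal rfl hQp.ge).trans ?_
    have e : trd (Ideal.quotientMap Q (algebraMap R (Localization.Away g)) hQp.ge) =
      trd (Ideal.quotientMap q (algebraMap R S) (Ideal.over_def q p).le) := by
      have hpq : p ≤ q.comap (algebraMap R S) := (Ideal.over_def q p).le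
      let iq : Algebra (R ⧸ p) (S ⧸ q) := (Ideal.quotientMap q (algebraMap R S) hpq).toAlgebra
      let θ₁ : p.ResidueField →+* q.ResidueField := (Ideal.ResidueField.mapₐ p q (Algebra.ofId R S)
        (Ideal.over_def q p)).toRingHom
      have hθ₁ : ∀ a, θ₁ (algebraMap R p.ResidueField a) =
          algebraMap S q.ResidueField (algebraMap R S a) := by
        intro a
        change (Ideal.ResidueField.mapₐ p q (Algebra.ofId R S)
          (Ideal.over_def q p)) (algebraMap R p.ResidueField a) = _
        rw [AlgHom.commutes, IsScalarTower.algebraMap_apply R S q.ResidueField]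
      let θ₂ : q.ResidueField →+* Q.ResidueField := (Ideal.ResidueField.mapₐ q Q
        (Algebra.ofId S (Localization.Away g)) hQq.symm).toRingHom
      have hθ₂ : ∀ a, θ₂ (algebraMap S q.ResidueField a) =
          algebraMap (Localization.Away g) Q.ResidueField (algebraMap S (Localization.Away g) a) := by
        intro a
        change (Ideal.ResidueField.mapₐ q Q (Algebra.ofId S (Localization.Away g)) hQq.symm)
          (algebraMap S q.ResidueField a) = _
        rw [AlgHom.commutes, IsScalarTower.algebraMap_apply S (Localization.Away g) Q.ResidueField]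
      have hsurj : Function.Surjective θ₂ := by
        intro z
        obtain ⟨a, b, hb, hab⟩ := fracGen_residueField Q z
        obtain ⟨⟨a', s⟩, ha'⟩ := IsLocalization.surj (Submonoid.powers g) a
        obtain ⟨⟨b', t⟩, hb'⟩ := IsLocalization.surj (Submonoid.powers g) b
        have hunit : ∀ s : Submonoid.powers g, algebraMap (Localization.Away g) Q.ResidueField
            (algebraMap S (Localization.Away g) s) ≠ 0 := fun s =>
          ((IsLocalization.map_units (Localization.Away g) s).map
            (algebraMap (Localization.Away g) Q.ResidueField)).ne_zero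
        have hb'' : θ₂ (algebraMap S q.ResidueField b') ≠ 0 := by
          rw [hθ₂, ← hb', map_mul]
          exact mul_ne_zero hb (hunit t)
        refine ⟨algebraMap S q.ResidueField (a' * t) / algebraMap S q.ResidueField (b' * s), ?_⟩
        rw [map_div₀, map_mul, map_mul, map_mul, map_mul, hθ₂, hθ₂, hθ₂, hθ₂, ← ha', ← hb']
        rw [map_mul, map_mul, ← hab]
        have h1 := hunit s
        have h2 := hunit t
        field_simp
      rw [← trd_residueField p Q (θ₂.comp θ₁) (fun a => by
          rw [RingHom.comp_apply, hθ₁, hθ₂, ← IsScalarTower.algebraMap_apply R S (Localization.Away g)]),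
        ← trd_residueField p q θ₁ hθ₁, trd_comp_surjective _ _ hsurj]
    exact e
  obtain ⟨φ₀, hφ₀, hφ₀q⟩ := Groth.Agent.S2100.result s r (QA.asIdeal.comap ψ) hr'
  obtain ⟨φ, hφ, hφQ⟩ := lift_quasiFinite p s (ψ.comp φ₀) (AlgHom.Finite.comp hψf hφ₀) QA.asIdeal
    {i : Fin s | r ≤ (i : ℕ)} (by
      have : QA.asIdeal.comap (ψ.comp φ₀) = (QA.asIdeal.comap ψ).comap φ₀ := rfl
      rw [this, hφ₀q]
      congr 1
      ext y
      simp) Q rfl
  exact ⟨g, φ, Q, inferInstance, hgq, hQq, hφ, hφQ⟩

/-- The quasi-finite version: near `q` the ring `S` is quasi-finite over `R[x_1, …, x_n]` such that the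
preimage of `q` is `(p, x_{r+1}, …, x_n)`. -/
theorem exists_quasiFinite {R S : Type u} [CommRing R] [CommRing S] [Algebra R S]
    [Algebra.FiniteType R S]
    (p : Ideal R) [p.IsPrime] (q : Ideal S) [q.IsPrime] [q.LiesOver p] (n r : ℕ)
    (x : PrimeSpectrum (p.Fiber S))
    (hx : x.asIdeal.comap (Algebra.TensorProduct.includeRight.toRingHom : S →+* p.Fiber S) = q)
    (hn : FlatMor.localDim (PrimeSpectrum (p.Fiber S)) x = n)
    (hr : trd (Ideal.quotientMap q (algebraMap R S) (Ideal.over_def q p).le) = r) :
    ∃ (g : S) (φ : MvPolynomial (Fin n) R →ₐ[R] Localization.Away g), g ∉ q ∧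
      (q.map (algebraMap S (Localization.Away g))).comap φ.toRingHom =
        p.map C ⊔ Ideal.span (X '' {i : Fin n | r ≤ (i : ℕ)}) ∧
      φ.toRingHom.QuasiFinite := by
  obtain ⟨g, φ, Q, hQ, hg, hQq, hφ, hqf⟩ := exists_quasiFiniteAt p q n r x hx hn hr
  let := φ.toRingHom.toAlgebra
  have : IsScalarTower R (MvPolynomial (Fin n) R) (Localization.Away g) :=
    .of_algebraMap_eq' φ.comp_algebraMap.symm
  have : Algebra.FiniteType (MvPolynomial (Fin n) R) (Localization.Away g) :=
    .of_restrictScalars_finiteType R _ _
  have hqf' : Algebra.QuasiFiniteAt (MvPolynomial (Fin n) R) Q := hqf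
  obtain ⟨h, hh, hQF⟩ :=
    Groth.Agent.Ega43.FibreDimAlg.exists_quasiFinite_away_of_quasiFiniteAt
      (R := MvPolynomial (Fin n) R) Q
  let a : S := (IsLocalization.Away.sec g h).1
  have ha : Associated (algebraMap S (Localization.Away g) a) h :=
    IsLocalization.Away.associated_sec_fst g h
  have hloc : IsLocalization.Away (g * a) (Localization.Away h) :=
    IsLocalization.Away.mul_of_associated g a h ha
  have haq : a ∉ q := by
    intro hmem
    apply hh
    have h1 : algebraMap S (Localization.Away g) a ∈ Q := by
      rw [← hQq] at hmem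
      exact hmem
    obtain ⟨c, hc⟩ := ha.dvd
    rw [hc]
    exact Ideal.mul_mem_right _ _ h1
  let e : Localization.Away (g * a) ≃ₐ[S] Localization.Away h :=
    IsLocalization.algEquiv (Submonoid.powers (g * a)) _ _
  let ψ : MvPolynomial (Fin n) R →ₐ[R] Localization.Away (g * a) :=
    ((e.symm.restrictScalars R).toAlgHom).comp
      (IsScalarTower.toAlgHom R (MvPolynomial (Fin n) R) (Localization.Away h))
  refine ⟨g * a, ψ, q.primeCompl.mul_mem hg haq, ?_, ?_⟩
  · have h1 : (q.map (algebraMap S (Localization.Away (g * a)))).map e.toRingEquiv.toRingHom =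
        q.map (algebraMap S (Localization.Away h)) := by
      rw [Ideal.map_map]
      congr 1
      ext s
      exact e.commutes s
    have h2 : (q.map (algebraMap S (Localization.Away h))).comap
        (algebraMap (Localization.Away g) (Localization.Away h)) = Q := by
      rw [IsScalarTower.algebraMap_eq S (Localization.Away g) (Localization.Away h),
        ← Ideal.map_map, ← hQq,
        IsLocalization.map_comap (Submonoid.powers g) (Localization.Away g)]
      exact IsLocalization.comap_map_of_isPrime_disjoint (Submonoid.powers h) _ hQ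
        ((Ideal.disjoint_powers_iff_notMem _ hQ.isRadical).mpr hh)
    have h3 : q.map (algebraMap S (Localization.Away (g * a))) =
        (q.map (algebraMap S (Localization.Away h))).comap e.toRingEquiv.toRingHom := by
      rw [← h1]
      exact (Ideal.comap_map_of_bijective _ e.bijective).symm
    rw [h3, Ideal.comap_comap, ← hφ, ← h2, Ideal.comap_comap]
    congr 1
    ext z
    · change e (e.symm _) = _
      rw [AlgEquiv.apply_symm_apply]
      rfl
    · change e (e.symm _) = _
      rw [AlgEquiv.apply_symm_apply]
      rfl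
  · have h1 : (algebraMap (MvPolynomial (Fin n) R) (Localization.Away h)).QuasiFinite :=
      RingHom.quasiFinite_algebraMap.mpr hQF
    have h2 : (e.symm : Localization.Away h →+* Localization.Away (g * a)).QuasiFinite :=
      .of_finite (RingHom.Finite.of_surjective _ e.symm.surjective)
    exact h2.comp h1

end K69.QFAffine
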