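import Groth.Agent.Dual.H319.FibDim
import Groth.Agent.CalgC.LocalDimBC
import Groth.Agent.Ega43.FibChev
import Groth.Agent.Ega4A.QuotLoc
import Groth.Agent.S0402
import Groth.Agent.CAlg.K68.CMFT
import Groth.Agent.CAlg.K69.CMSpec

/-!
# Regular sequences in the local rings of Cohen–Macaulay fibres
-/

set_option autoImplicit false
universe u

open CategoryTheory AlgebraicGeometry TensorProduct

namespace K69.RegFib

open Groth.Agent.Ega4C.FibreTower

/-- Local dimension of a fibre at a point as the sum of the dimension of the local ring of the fibre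
and the dimension of the closure of the point. -/
theorem fibreDimAt_eq_add {R S : Type u} [CommRing R] [CommRing S] [Algebra R S]
    [Algebra.FiniteType R S] (p : PrimeSpectrum R) (Q : PrimeSpectrum (p.asIdeal.Fiber S))
    (q : PrimeSpectrum S) (hq : q.asIdeal = ctr p.asIdeal Q.asIdeal) :
    FlatMor.fibreDimAt (Spec.map (CommRingCat.ofHom (algebraMap R S))) q =
      ringKrullDim (EGA4.FibLocRing R S q.asIdeal) + ringKrullDim (p.asIdeal.Fiber S ⧸ Q.asIdeal) := by
  have h1 := Groth.Agent.CalgC.LocalDim.localDim_eq_height_add p.asIdeal.ResidueField Q.asIdeal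
  rw [Groth.Agent.Dual.H319.FibDim.fibreDimAt_spec p Q q hq]
  refine h1.trans ?_
  rw [← Groth.Agent.Ega43.FibChev.ringKrullDim_fibLocRing p.asIdeal Q.asIdeal]
  rw [Groth.Agent.Ega43.FibChev.dim_fibLocRing_congr hq]

/-- Comparison of the local fibre dimensions on a closed subscheme. -/
theorem exists_nat {R S : Type u} [CommRing R] [CommRing S] [Algebra R S]
    [Algebra.FiniteType R S] (I : Ideal S) (q' : PrimeSpectrum (S ⧸ I)) :
    ∃ t : ℕ, FlatMor.fibreDimAt (Spec.map (CommRingCat.ofHom (algebraMap R (S ⧸ I)))) q' =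
        ringKrullDim (EGA4.FibLocRing R (S ⧸ I) q'.asIdeal) + t ∧
      FlatMor.fibreDimAt (Spec.map (CommRingCat.ofHom (algebraMap R S)))
        (q'.comap (Ideal.Quotient.mk I)) =
        ringKrullDim (EGA4.FibLocRing R S (q'.comap (Ideal.Quotient.mk I)).asIdeal) + t := by
  let p : PrimeSpectrum R := q'.comap (algebraMap R (S ⧸ I))
  obtain ⟨Q', hQ'p, hQ'⟩ := exists_prime_fibre p.asIdeal q'.asIdeal rfl
  let g : p.asIdeal.Fiber S →ₐ[p.asIdeal.ResidueField] p.asIdeal.Fiber (S ⧸ I) :=
    Algebra.TensorProduct.map (AlgHom.id p.asIdeal.ResidueField p.asIdeal.ResidueField)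
      (Ideal.Quotient.mkₐ R I)
  have hg : Function.Surjective g :=
    Algebra.TensorProduct.map_surjective _ _ Function.surjective_id
      (Ideal.Quotient.mkₐ_surjective R I)
  let Q : PrimeSpectrum (p.asIdeal.Fiber S) := ⟨Q'.comap g.toRingHom, inferInstance⟩
  obtain ⟨t, ht, -⟩ := Groth.Agent.CalgC.DimFT.exists_dim p.asIdeal.ResidueField
    (p.asIdeal.Fiber (S ⧸ I) ⧸ Q')
  refine ⟨t, ?_, ?_⟩
  · rw [fibreDimAt_eq_add p ⟨Q', hQ'p⟩ q' hQ'.symm, ht]
  · have hq : (q'.comap (Ideal.Quotient.mk I)).asIdeal = ctr p.asIdeal Q.asIdeal := by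
      have h1 : ctr p.asIdeal Q.asIdeal = (ctr p.asIdeal Q').comap (Ideal.Quotient.mk I) := by
        ext s
        change g (1 ⊗ₜ s) ∈ Q' ↔ (1 ⊗ₜ (Ideal.Quotient.mk I s) : p.asIdeal.Fiber (S ⧸ I)) ∈ Q'
        rw [Algebra.TensorProduct.map_tmul, map_one]
        rfl
      rw [h1, hQ']
      rfl
    rw [fibreDimAt_eq_add p Q _ hq, Groth.Agent.CalgC.LocalDimBC.ringKrullDim_quotient_comap
      g.toRingHom hg Q', ht]

/-- Local rings of the fibres of a closed subscheme. -/
theorem ringKrullDim_quotient_eq {R S : Type u} [CommRing R] [CommRing S] [Algebra R S]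
    (f : List S) (q' : PrimeSpectrum (S ⧸ Ideal.ofList f)) (q : PrimeSpectrum S)
    (hq : q'.comap (Ideal.Quotient.mk (Ideal.ofList f)) = q) :
    ringKrullDim (EGA4.FibLocRing R S q.asIdeal ⧸
      Ideal.ofList (f.map (algebraMap S (EGA4.FibLocRing R S q.asIdeal)))) =
      ringKrullDim (EGA4.FibLocRing R (S ⧸ Ideal.ofList f) q'.asIdeal) := by
  let I := Ideal.ofList f
  let A := Localization.AtPrime q.asIdeal
  let p := q.asIdeal.comap (algebraMap R S)
  let J : Ideal S := I ⊔ p.map (algebraMap R S)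
  have hJ : RingHom.ker (Ideal.Quotient.mk I) ≤ J := by
    rw [Ideal.mk_ker]; exact le_sup_left
  let e₁ := Groth.Agent.Ega4A.QuotLoc.quotLocEquiv (Ideal.Quotient.mk I) Ideal.Quotient.mk_surjective
    q'.asIdeal q.asIdeal (congrArg PrimeSpectrum.asIdeal hq).symm J hJ
  have hp : q'.asIdeal.comap (algebraMap R (S ⧸ I)) = p := by
    change _ = q.asIdeal.comap (algebraMap R S)
    rw [← hq]
    rfl
  have h2 : (J.map (Ideal.Quotient.mk I)).map (algebraMap (S ⧸ I) (Localization.AtPrime q'.asIdeal)) =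
      (q'.asIdeal.comap (algebraMap R (S ⧸ I))).map
        (algebraMap R (Localization.AtPrime q'.asIdeal)) := by
    rw [hp, Ideal.map_sup, Ideal.map_quotient_self, bot_sup_eq, Ideal.map_map, Ideal.map_map]
    congr 1
  let e₂ := e₁.trans (Ideal.quotEquivOfEq h2)
  have h3 : J.map (algebraMap S A) = p.map (algebraMap R A) ⊔ I.map (algebraMap S A) := by
    rw [Ideal.map_sup, Ideal.map_map, ← IsScalarTower.algebraMap_eq, sup_comm]
  let e₃ : ((A ⧸ p.map (algebraMap R A)) ⧸ (I.map (algebraMap S A)).map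
      (Ideal.Quotient.mk (p.map (algebraMap R A)))) ≃+* A ⧸ J.map (algebraMap S A) :=
    (DoubleQuot.quotQuotEquivQuotSup _ _).trans (Ideal.quotEquivOfEq h3.symm)
  have h4 : Ideal.ofList (f.map (algebraMap S (EGA4.FibLocRing R S q.asIdeal))) =
      (I.map (algebraMap S A)).map (Ideal.Quotient.mk (p.map (algebraMap R A))) := by
    rw [Ideal.map_map, ← Ideal.map_ofList]
    rfl
  exact ringKrullDim_eq_of_ringEquiv ((Ideal.quotEquivOfEq h4).trans (e₃.trans e₂))

/-- The local fibre dimension for equidimensional fibres. -/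
theorem fibreDimAt_eq {R S : Type u} [CommRing R] [CommRing S] [Algebra R S]
    [Algebra.FiniteType R S] (d : ℕ)
    (heq : ∀ p : PrimeSpectrum R, ∀ P ∈ minimalPrimes (p.asIdeal.Fiber S),
      ringKrullDim (p.asIdeal.Fiber S ⧸ P) = (d : WithBot ℕ∞)) (q : PrimeSpectrum S) :
    FlatMor.fibreDimAt (Spec.map (CommRingCat.ofHom (algebraMap R S))) q = d := by
  obtain ⟨Q, hQp, hQ⟩ := exists_prime_fibre (q.comap (algebraMap R S)).asIdeal q.asIdeal rfl
  rw [Groth.Agent.Dual.H319.FibDim.fibreDimAt_spec (q.comap (algebraMap R S)) ⟨Q, hQp⟩ q hQ.symm]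
  obtain ⟨P, hP, hPQ⟩ := Ideal.exists_minimalPrimes_le (show (⊥ : Ideal _) ≤ Q from bot_le)
  refine le_antisymm ?_ ?_
  · exact Groth.Agent.Dual.H319.FibDim.localDim_le (q.comap (algebraMap R S)).asIdeal.ResidueField
      _ _ fun P hP _ => (heq (q.comap (algebraMap R S)) P hP).le
  · rw [← heq (q.comap (algebraMap R S)) P hP]
    exact Groth.Agent.Dual.H319.FibDim.le_localDim
      (q.comap (algebraMap R S)).asIdeal.ResidueField _ P hP hPQ

theorem exists_ringKrullDim_fibLocRing (R S : Type u) [CommRing R] [CommRing S] [Algebra R S]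
    [Algebra.FiniteType R S] (q : PrimeSpectrum S) :
    ∃ n : ℕ, ringKrullDim (EGA4.FibLocRing R S q.asIdeal) = n := by
  obtain ⟨Q, hQp, hQ⟩ := exists_prime_fibre (q.comap (algebraMap R S)).asIdeal q.asIdeal rfl
  have hN : IsNoetherianRing ((q.comap (algebraMap R S)).asIdeal.Fiber S) :=
    Algebra.FiniteType.isNoetherianRing (q.comap (algebraMap R S)).asIdeal.ResidueField _
  obtain ⟨n, hn⟩ := ENat.ne_top_iff_exists.mp (Ideal.height_ne_top_of_isPrime (I := Q))
  refine ⟨n, ?_⟩
  rw [← Groth.Agent.Ega43.FibChev.dim_fibLocRing_congr hQ,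
    Groth.Agent.Ega43.FibChev.ringKrullDim_fibLocRing, ← hn]
  rfl

/-- The criterion: the sequence is regular in the local ring of the fibre iff the local dimension of the
fibre of the closed subscheme is `d - i`. -/
theorem isRegular_iff {R S : Type u} [CommRing R] [CommRing S] [Algebra R S]
    [Algebra.FiniteType R S] (d : ℕ)
    (hCM : ∀ p : PrimeSpectrum R, LocCoh.IsCohenMacaulayRing (p.asIdeal.Fiber S))
    (heq : ∀ p : PrimeSpectrum R, ∀ P ∈ minimalPrimes (p.asIdeal.Fiber S),
      ringKrullDim (p.asIdeal.Fiber S ⧸ P) = (d : WithBot ℕ∞)) (f : List S)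
    (q' : PrimeSpectrum (S ⧸ Ideal.ofList f)) (q : PrimeSpectrum S)
    (hq : q'.comap (Ideal.Quotient.mk (Ideal.ofList f)) = q) :
    RingTheory.Sequence.IsRegular (EGA4.FibLocRing R S q.asIdeal)
        (f.map (algebraMap S (EGA4.FibLocRing R S q.asIdeal))) ↔
      FlatMor.fibreDimAt (Spec.map (CommRingCat.ofHom (algebraMap R (S ⧸ Ideal.ofList f)))) q' +
        (f.length : WithBot ℕ∞) ≤ d := by
  obtain ⟨t, h1, h2⟩ := exists_nat (R := R) (Ideal.ofList f) q'
  rw [hq, fibreDimAt_eq d heq] at h2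
  obtain ⟨a, ha⟩ := exists_ringKrullDim_fibLocRing R S q
  obtain ⟨b, hb⟩ := exists_ringKrullDim_fibLocRing R (S ⧸ Ideal.ofList f) q'
  have h3 := ringKrullDim_quotient_eq (R := R) f q' q hq
  have hcm : LocCoh.IsCohenMacaulayLocalRing (EGA4.FibLocRing R S q.asIdeal) :=
    K69.CMSpec.isCohenMacaulayLocalRing_fibLocRing q.asIdeal (hCM (q.comap (algebraMap R S)))
  have hmem : ∀ r ∈ f.map (algebraMap S (EGA4.FibLocRing R S q.asIdeal)),
      r ∈ IsLocalRing.maximalIdeal (EGA4.FibLocRing R S q.asIdeal) := by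
    intro r hr
    obtain ⟨x, hx, rfl⟩ := List.mem_map.mp hr
    have hxq : x ∈ q.asIdeal := by
      rw [← hq]
      change Ideal.Quotient.mk _ x ∈ q'.asIdeal
      rw [Ideal.Quotient.eq_zero_iff_mem.mpr (Ideal.subset_span (by simpa using hx))]
      exact zero_mem _
    have hx' : algebraMap S (Localization.AtPrime q.asIdeal) x ∈
        IsLocalRing.maximalIdeal (Localization.AtPrime q.asIdeal) :=
      (IsLocalization.AtPrime.to_map_mem_maximal_iff _ q.asIdeal x).mpr hxq
    rw [IsLocalRing.mem_maximalIdeal, mem_nonunits_iff] at hx' ⊢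
    intro hu
    apply hx'
    have hloc : IsLocalHom (Ideal.Quotient.mk ((q.asIdeal.comap (algebraMap R S)).map
        (algebraMap R (Localization.AtPrime q.asIdeal)))) :=
      IsLocalHom.of_surjective _ Ideal.Quotient.mk_surjective
    exact (isUnit_map_iff (Ideal.Quotient.mk ((q.asIdeal.comap (algebraMap R S)).map
        (algebraMap R (Localization.AtPrime q.asIdeal)))) _).mp hu
  rw [h1, hb]
  rw [ha] at h2
  rw [hb] at h3
  have k2 : d = a + t := by exact_mod_cast h2
  constructor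
  · intro hreg
    have h4 := ringKrullDim_add_length_eq_ringKrullDim_of_isRegular _ hreg
    rw [h3, ha, List.length_map] at h4
    have k4 : b + f.length = a := by exact_mod_cast h4
    have k5 : b + t + f.length ≤ d := by omega
    exact_mod_cast k5
  · intro h
    have k5 : b + t + f.length ≤ d := by exact_mod_cast h
    refine K68.CMFT.isRegular_of_ringKrullDim_le _ hmem ?_
    rw [h3, ha, List.length_map]
    have k6 : b + f.length ≤ a := by omega
    exact_mod_cast k6

theorem exists_isOpen {R S : Type u} [CommRing R] [CommRing S]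
    [Algebra R S] [Algebra.FiniteType R S] (d : ℕ)
    (hCM : ∀ p : PrimeSpectrum R, LocCoh.IsCohenMacaulayRing (p.asIdeal.Fiber S))
    (heq : ∀ p : PrimeSpectrum R, ∀ P ∈ minimalPrimes (p.asIdeal.Fiber S),
      ringKrullDim (p.asIdeal.Fiber S ⧸ P) = (d : WithBot ℕ∞))
    (f : List S) :
    ∃ U : Set (PrimeSpectrum S), IsOpen U ∧ ∀ q : PrimeSpectrum S, Ideal.ofList f ≤ q.asIdeal →
      (q ∈ U ↔ RingTheory.Sequence.IsRegular (EGA4.FibLocRing R S q.asIdeal)
        (f.map (algebraMap S (EGA4.FibLocRing R S q.asIdeal)))) := by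
  let I := Ideal.ofList f
  have hex : ∀ q : PrimeSpectrum S, I ≤ q.asIdeal → ∃ q' : PrimeSpectrum (S ⧸ I),
      q'.comap (Ideal.Quotient.mk I) = q := by
    intro q hq
    have : q ∈ Set.range (PrimeSpectrum.comap (Ideal.Quotient.mk I)) := by
      rw [range_comap_of_surjective _ _ Ideal.Quotient.mk_surjective, Ideal.mk_ker]
      exact hq
    exact this
  by_cases hd : f.length ≤ d
  · have hlft : LocallyOfFiniteType (Spec.map (CommRingCat.ofHom (algebraMap R (S ⧸ I)))) := by
      rw [HasRingHomProperty.Spec_iff (P := @LocallyOfFiniteType)]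
      exact RingHom.finiteType_algebraMap.mpr inferInstance
    have hW := Groth.Agent.S0402.result
      (Spec.map (CommRingCat.ofHom (algebraMap R (S ⧸ I)))) (d - f.length)
    have hind : Topology.IsInducing (PrimeSpectrum.comap (Ideal.Quotient.mk I)) :=
      (PrimeSpectrum.isClosedEmbedding_comap_of_surjective _ _
        Ideal.Quotient.mk_surjective).isInducing
    obtain ⟨U, hU, hUW⟩ := hind.isOpen_iff.mp hW
    refine ⟨U, hU, fun q hq => ?_⟩
    obtain ⟨q', hq'⟩ := hex q hq
    rw [isRegular_iff d hCM heq f q' q hq', ← hq']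
    have h1 : q'.comap (Ideal.Quotient.mk I) ∈ U ↔ q' ∈ {x : PrimeSpectrum (S ⧸ I) |
      FlatMor.fibreDimAt (Spec.map (CommRingCat.ofHom (algebraMap R (S ⧸ I)))) x ≤
        (d - f.length : ℕ)} := Set.ext_iff.mp hUW q'
    refine h1.trans ?_
    obtain ⟨t, h2, -⟩ := exists_nat (R := R) (Ideal.ofList f) q'
    obtain ⟨b, hb⟩ := exists_ringKrullDim_fibLocRing R (S ⧸ Ideal.ofList f) q'
    rw [Set.mem_setOf_eq, h2, hb]
    have h3 : b + t ≤ d - f.length ↔ b + t + f.length ≤ d := by omega
    exact_mod_cast h3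
  · refine ⟨∅, isOpen_empty, fun q hq => ?_⟩
    obtain ⟨q', hq'⟩ := hex q hq
    rw [isRegular_iff d hCM heq f q' q hq']
    obtain ⟨t, h2, -⟩ := exists_nat (R := R) (Ideal.ofList f) q'
    obtain ⟨b, hb⟩ := exists_ringKrullDim_fibLocRing R (S ⧸ Ideal.ofList f) q'
    rw [h2, hb]
    refine iff_of_false (Set.notMem_empty _) ?_
    intro h
    have h3 : b + t + f.length ≤ d := by exact_mod_cast h
    omega

end K69.RegFib
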