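import Groth.Agent.CalgB.RegQuot
import Groth.Agent.CalgA.RegBasic
import Mathlib.RingTheory.Regular.RegularSequence

/-! Part of a regular system of parameters of a regular local ring is a regular sequence. -/

set_option autoImplicit false

open IsLocalRing

namespace K69.RegPar

/-- Completing `y` to a regular system of parameters (copy of `Etdl.H437.RegPar.exists_parameters`,
with a smaller import closure). -/
theorem exists_parameters (A : Type*) [CommRing A] [IsRegularLocalRing A] (c : ℕ) (y : Fin c → A)
    (hreg : IsRegularLocalRing (A ⧸ Ideal.span (Set.range y))) (d : ℕ)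
    (hd : ringKrullDim (A ⧸ Ideal.span (Set.range y)) = d) :
    ∃ z : Fin d → A, Ideal.span (Set.range z) ⊔ Ideal.span (Set.range y) = maximalIdeal A := by
  set J := Ideal.span (Set.range y) with hJ
  have h1 : (maximalIdeal (A ⧸ J)).spanFinrank = d := by
    have := IsRegularLocalRing.spanFinrank_maximalIdeal (R := A ⧸ J)
    rw [hd] at this
    exact_mod_cast this
  have hfg : (maximalIdeal (A ⧸ J)).FG := IsNoetherian.noetherian _
  have hcard : (maximalIdeal (A ⧸ J)).generators.ncard = d := by
    rw [Submodule.FG.generators_ncard hfg, h1]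
  have hfin := Submodule.FG.finite_generators hfg
  let e : Fin d ≃ (maximalIdeal (A ⧸ J)).generators := by
    have := hfin.fintype
    refine (Fintype.equivFinOfCardEq ?_).symm
    rw [← hcard, Set.ncard_eq_toFinset_card', Set.toFinset_card]
  choose z hz using fun i : Fin d => Ideal.Quotient.mk_surjective (e i : A ⧸ J)
  refine ⟨z, ?_⟩
  have hJm : J ≤ maximalIdeal A := le_maximalIdeal fun h => by
    have : Subsingleton (A ⧸ J) := Ideal.Quotient.subsingleton_iff.2 h
    exact not_subsingleton (A ⧸ J) this
  have hcomap : (maximalIdeal (A ⧸ J)).comap (Ideal.Quotient.mk J) = maximalIdeal A :=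
    ((local_hom_TFAE (Ideal.Quotient.mk J)).out 0 4).1
      (IsLocalHom.of_surjective _ Ideal.Quotient.mk_surjective)
  have hmap : (Ideal.span (Set.range z)).map (Ideal.Quotient.mk J) = maximalIdeal (A ⧸ J) := by
    rw [Ideal.map_span, ← Set.range_comp]
    have : Set.range (Ideal.Quotient.mk J ∘ z) = (maximalIdeal (A ⧸ J)).generators := by
      ext w
      constructor
      · rintro ⟨i, rfl⟩
        rw [Function.comp_apply, hz]
        exact (e i).2
      · intro hw
        obtain ⟨i, hi⟩ := e.surjective ⟨w, hw⟩
        exact ⟨i, by rw [Function.comp_apply, hz, hi]⟩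
    rw [this]
    exact Submodule.span_generators _
  rw [← hcomap, ← hmap,
    Ideal.comap_map_of_surjective _ Ideal.Quotient.mk_surjective, ← RingHom.ker_eq_comap_bot,
    Ideal.mk_ker]

/-- Elements of the maximal ideal of a regular local ring which are linearly independent in `𝔪/𝔪²`
form a regular sequence and cut out a regular local ring. -/
theorem isRegular_of_independent {P : Type*} [CommRing P] [IsRegularLocalRing P] {m : ℕ}
    (f : Fin m → P) (hf : ∀ i, f i ∈ maximalIdeal P)
    (hind : ∀ c : Fin m → P, (∑ i, c i * f i) ∈ maximalIdeal P ^ 2 → ∀ i, c i ∈ maximalIdeal P) :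
    IsRegularLocalRing (P ⧸ Ideal.span (Set.range f)) ∧
      RingTheory.Sequence.IsRegular P (List.ofFn f) := by
  have h0 := Groth.Agent.CalgB.RegQuot.isRegularLocalRing_quotient f hf (by
    intro c hc
    rw [finsum_eq_sum_of_fintype] at hc
    exact hind c hc)
  obtain ⟨h1, h2⟩ := h0
  refine ⟨h1, ?_⟩
  obtain ⟨d, hd⟩ := Groth.Agent.CalgA.RegBasic.ringKrullDim_eq_natCast
    (P ⧸ Ideal.span (Set.range f))
  obtain ⟨z, hz⟩ := exists_parameters P m f h1 d hd
  rw [IsLocalRing.isRegular_iff_isWeaklyRegular_of_subset_maximalIdeal (by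
    intro r hr
    rw [List.mem_ofFn] at hr
    obtain ⟨i, rfl⟩ := hr
    exact hf i)]
  have h3 : RingTheory.Sequence.IsRegular P (List.ofFn f ++ List.ofFn z) := by
    refine Groth.Agent.CalgA.RegBasic.isRegular_of_ofList_eq (m + d) P _ ?_ ?_ ?_
    · rw [List.length_append, List.length_ofFn, List.length_ofFn]
    · rw [← h2, hd, Nat.card_eq_fintype_card, Fintype.card_fin, add_comm]
      rfl
    · rw [Ideal.ofList_append, ← hz, sup_comm]
      congr 1
      · simp only [Ideal.ofList, List.mem_ofFn, Set.range]
      · simp only [Ideal.ofList, List.mem_ofFn, Set.range]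
  exact ((RingTheory.Sequence.isWeaklyRegular_append_iff _ _ _).mp h3.toIsWeaklyRegular).1

end K69.RegPar
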