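import Mathlib.RingTheory.Smooth.Basic
import Mathlib.RingTheory.Smooth.Kaehler
import Mathlib.Algebra.Module.Projective

/-! Homotopy equivalent two-term complexes have stably isomorphic terms; application to two formally
smooth presentations of the same algebra. -/

set_option autoImplicit false
universe u

namespace K69.TwoTerm

/-- If `(C1 → C0)` and `(D1 → D0)` are homotopy equivalent and `D0` is projective then
`C1 × D0 ≃ D1 × C0`. -/
theorem nonempty_equiv {T : Type*} [CommRing T] {C1 C0 D1 D0 : Type*} [AddCommGroup C1]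
    [AddCommGroup C0] [AddCommGroup D1] [AddCommGroup D0] [Module T C1] [Module T C0] [Module T D1]
    [Module T D0] (dC : C1 →ₗ[T] C0) (dD : D1 →ₗ[T] D0) (f1 : C1 →ₗ[T] D1) (f0 : C0 →ₗ[T] D0)
    (g1 : D1 →ₗ[T] C1) (g0 : D0 →ₗ[T] C0) (hf : ∀ c, dD (f1 c) = f0 (dC c))
    (hg : ∀ d, dC (g1 d) = g0 (dD d)) (h : C0 →ₗ[T] C1) (k : D0 →ₗ[T] D1)
    (h1 : ∀ c, c - g1 (f1 c) = h (dC c)) (h0 : ∀ x, x - g0 (f0 x) = dC (h x))
    (k1 : ∀ d, d - f1 (g1 d) = k (dD d)) (k0 : ∀ y, y - f0 (g0 y) = dD (k y))
    [Module.Projective T D0] : Nonempty ((C1 × D0) ≃ₗ[T] (D1 × C0)) := by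
  let a : C1 →ₗ[T] (D1 × C0) := LinearMap.prod (-f1) dC
  let b : (D1 × C0) →ₗ[T] D0 := LinearMap.coprod dD f0
  have hb : ∀ z : D1 × C0, b z = dD z.1 + f0 z.2 := fun z => rfl
  have ha : ∀ c, a c = (-f1 c, dC c) := fun c => rfl
  have hba : ∀ c, b (a c) = 0 := by
    intro c
    rw [ha, hb, map_neg, hf, neg_add_cancel]
  have hainj : Function.Injective a := by
    rw [injective_iff_map_eq_zero]
    intro c hc
    rw [ha, Prod.mk_eq_zero, neg_eq_zero] at hc
    have := h1 c
    rwa [hc.1, hc.2, map_zero, map_zero, sub_zero] at this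
  have hbsurj : Function.Surjective b := by
    intro y
    refine ⟨(k y, g0 y), ?_⟩
    rw [hb, ← k0, sub_add_cancel]
  have hex : ∀ z : D1 × C0, b z = 0 → ∃ c, a c = z := by
    rintro ⟨y, x⟩ hz
    rw [hb] at hz
    simp only at hz
    -- first correction
    set c' : C1 := h x - g1 y with hc'
    have e1 : dC c' = x := by
      rw [hc', map_sub, hg, ← h0]
      have : f0 x = - dD y := by rw [eq_neg_iff_add_eq_zero, add_comm]; exact hz
      rw [this, map_neg, sub_neg_eq_add, add_sub_cancel_right]
    set z' : D1 := f1 c' + y with hz'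
    have e2 : dD z' = 0 := by
      rw [hz', map_add, hf, e1, add_comm]; exact hz
    refine ⟨c' - g1 z', ?_⟩
    have e3 := k1 z'
    rw [e2, map_zero, sub_eq_zero] at e3
    have e4 : dC (c' - g1 z') = x := by
      rw [map_sub, hg, e2, map_zero, sub_zero, e1]
    have e5 : - f1 (c' - g1 z') = y := by
      rw [map_sub, ← e3, hz', sub_add_cancel_left, neg_neg]
    rw [ha, e4, e5]
  obtain ⟨s, hs⟩ := Module.projective_lifting_property b LinearMap.id hbsurj
  have hs' : ∀ y, b (s y) = y := fun y => LinearMap.congr_fun hs y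
  refine ⟨LinearEquiv.ofBijective (LinearMap.coprod a s) ⟨?_, ?_⟩⟩
  · rw [injective_iff_map_eq_zero]
    rintro ⟨c, y⟩ hcy
    rw [LinearMap.coprod_apply] at hcy
    simp only at hcy
    have e1 := congrArg b hcy
    rw [map_add, hba, zero_add, hs', map_zero] at e1
    rw [e1, map_zero, add_zero] at hcy
    rw [e1, hainj (hcy.trans (map_zero a).symm)]
    rfl
  · intro z
    obtain ⟨c, hc⟩ := hex (z - s (b z)) (by rw [map_sub, hs', sub_self])
    refine ⟨(c, b z), ?_⟩
    rw [LinearMap.coprod_apply]
    simp only
    rw [hc, sub_add_cancel]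

open Algebra.Extension in
/-- Two extensions (presentations) related by homomorphisms in both directions. -/
theorem nonempty_cotangent_equiv {R T : Type u} [CommRing R] [CommRing T] [Algebra R T]
    (P Q : Algebra.Extension.{u} R T) (f : P.Hom Q) (g : Q.Hom P)
    [Module.Projective T Q.CotangentSpace] :
    Nonempty ((P.Cotangent × Q.CotangentSpace) ≃ₗ[T] (Q.Cotangent × P.CotangentSpace)) := by
  refine nonempty_equiv P.cotangentComplex Q.cotangentComplex (Cotangent.map f)
    (CotangentSpace.map f) (Cotangent.map g) (CotangentSpace.map g)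
    (fun c => (CotangentSpace.map_cotangentComplex f c).symm)
    (fun c => (CotangentSpace.map_cotangentComplex g c).symm)
    ((Algebra.Extension.Hom.id P).sub (g.comp f)) ((Algebra.Extension.Hom.id Q).sub (f.comp g))
    ?_ ?_ ?_ ?_
  · intro c
    have := LinearMap.congr_fun (Cotangent.map_sub_map (Algebra.Extension.Hom.id P) (g.comp f)) c
    rw [Cotangent.map_id, Cotangent.map_comp] at this
    exact this
  · intro c
    have := LinearMap.congr_fun
      (CotangentSpace.map_sub_map (Algebra.Extension.Hom.id P) (g.comp f)) c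
    rw [CotangentSpace.map_id, CotangentSpace.map_comp] at this
    exact this
  · intro c
    have := LinearMap.congr_fun (Cotangent.map_sub_map (Algebra.Extension.Hom.id Q) (f.comp g)) c
    rw [Cotangent.map_id, Cotangent.map_comp] at this
    exact this
  · intro c
    have := LinearMap.congr_fun
      (CotangentSpace.map_sub_map (Algebra.Extension.Hom.id Q) (f.comp g)) c
    rw [CotangentSpace.map_id, CotangentSpace.map_comp] at this
    exact this

open Algebra.Extension in
/-- Two formally smooth presentations of the same algebra. -/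
theorem nonempty_cotangent_equiv_of_formallySmooth {R T : Type u} [CommRing R] [CommRing T]
    [Algebra R T] (P Q : Algebra.Extension.{u} R T) [Algebra.FormallySmooth R P.Ring]
    [Algebra.FormallySmooth R Q.Ring] :
    Nonempty ((P.Cotangent × Q.CotangentSpace) ≃ₗ[T] (Q.Cotangent × P.CotangentSpace)) := by
  have : Module.Projective Q.Ring (Ω[Q.Ring⁄R]) := inferInstance
  have h1 : Module.Projective T Q.CotangentSpace := by
    dsimp only [Algebra.Extension.CotangentSpace]
    infer_instance
  have e1 := LinearEquiv.ofBijective _ (CotangentSpace.map_toInfinitesimal_bijective Q)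
  have e2 := LinearEquiv.ofBijective _ (CotangentSpace.map_toInfinitesimal_bijective P)
  have e3 := LinearEquiv.ofBijective _ (Cotangent.map_toInfinitesimal_bijective Q)
  have e4 := LinearEquiv.ofBijective _ (Cotangent.map_toInfinitesimal_bijective P)
  have h2 : Module.Projective T Q.infinitesimal.CotangentSpace := Module.Projective.of_equiv e1
  obtain ⟨e⟩ := nonempty_cotangent_equiv P.infinitesimal Q.infinitesimal
    (homInfinitesimal P Q) (homInfinitesimal Q P)
  exact ⟨(e4.prodCongr e1).trans (e.trans (e3.prodCongr e2).symm)⟩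

end K69.TwoTerm
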